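import Mathlib
import Groth.Prelude.Def_Mor2
import Groth.Agent.Lib.HilbBC25.Basic

/-!
# Closed immersions between finite locally free schemes of the same degree
-/

set_option autoImplicit false
set_option linter.style.haveILetI false
set_option backward.isDefEq.respectTransparency.types false

universe u

open CategoryTheory CategoryTheory.Limits AlgebraicGeometry

namespace Groth.Agent.GrpdEt19

/-- A surjection onto a projective module of the same rank is injective. -/
theorem injective_of_surjective_of_rankAtStalk_eq {R M N : Type u} [CommRing R] [AddCommGroup M] [AddCommGroup N]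
    [Module R M] [Module R N] [Module.Finite R M] [Module.Projective R M] [Module.Projective R N]
    (φ : M →ₗ[R] N) (hφ : Function.Surjective φ)
    (h : ∀ p, Module.rankAtStalk (R := R) M p = Module.rankAtStalk N p) : Function.Injective φ := by
  haveI : Module.Finite R N := Module.Finite.of_surjective φ hφ
  obtain ⟨ψ, hψ⟩ := Module.projective_lifting_property φ LinearMap.id hφ
  have hψ' : ∀ n, φ (ψ n) = n := fun n => LinearMap.congr_fun hψ n
  let e : M ≃ₗ[R] LinearMap.ker φ × N :=
    { toFun := fun m => (⟨m - ψ (φ m), by simp [hψ']⟩, φ m)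
      map_add' := fun a b => by
        ext <;> simp [map_add]; abel
      map_smul' := fun c a => by
        ext <;> simp [smul_sub]
      invFun := fun p => p.1.1 + ψ p.2
      left_inv := fun m => by simp
      right_inv := fun p => by
        have hk : φ p.1.1 = 0 := p.1.2
        ext <;> simp [hk, hψ'] }
  haveI : Module.Finite R (LinearMap.ker φ) :=
    Module.Finite.of_surjective ((LinearMap.fst R _ N) ∘ₗ e.toLinearMap) (Prod.fst_surjective.comp e.surjective)
  haveI : Module.Projective R (LinearMap.ker φ) :=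
    Module.Projective.of_split ((e.symm.toLinearMap) ∘ₗ LinearMap.inl R _ N)
      ((LinearMap.fst R _ N) ∘ₗ e.toLinearMap) (by ext x; simp)
  rw [← LinearMap.ker_eq_bot, ← Submodule.subsingleton_iff_eq_bot]
  rw [← Module.rankAtStalk_eq_zero_iff_subsingleton (R := R)]
  ext p
  have h1 := Module.rankAtStalk_eq_of_equiv (R := R) e
  rw [Module.rankAtStalk_prod] at h1
  have h2 := congrFun h1 p
  rw [h p, Pi.add_apply] at h2
  show _ = 0
  omega

/-- The case of spectra. -/
theorem isIso_of_deg_spec {d : ℕ} {R B C : CommRingCat.{u}} (ρ : R ⟶ B) (φ : B ⟶ C)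
    [IsClosedImmersion (Spec.map φ)]
    (hC : Mor2.IsFinLocFreeOfDeg d (Spec.map φ ≫ Spec.map ρ)) (hB : Mor2.IsFinLocFreeOfDeg d (Spec.map ρ)) :
    IsIso (Spec.map φ) := by
  obtain ⟨⟨hB1, hB2, hB3⟩, hB4⟩ := hB
  rw [← Spec.map_comp] at hC
  obtain ⟨⟨hC1, hC2, hC3⟩, hC4⟩ := hC
  have hB1' : ρ.hom.Finite := (IsFinite.SpecMap_iff _).1 hB1
  have hB2' : ρ.hom.Flat := Flat.SpecMap_iff.1 hB2
  have hB3' : ρ.hom.FinitePresentation := (LocallyOfFinitePresentation.SpecMap_iff _).1 hB3
  have hC1' : (ρ ≫ φ).hom.Finite := (IsFinite.SpecMap_iff _).1 hC1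
  have hC2' : (ρ ≫ φ).hom.Flat := Flat.SpecMap_iff.1 hC2
  have hC3' : (ρ ≫ φ).hom.FinitePresentation := (LocallyOfFinitePresentation.SpecMap_iff _).1 hC3
  have r1 : ∀ y, (ρ ≫ φ).hom.finrank y = d := fun y => by
    rw [← Scheme.Hom.finrank_SpecMap_eq_finrank hC1' hC2', hC4]
  have r2 : ∀ y, ρ.hom.finrank y = d := fun y => by
    rw [← Scheme.Hom.finrank_SpecMap_eq_finrank hB1' hB2', hB4]
  have hsurj : Function.Surjective φ.hom := by
    have h := (Spec.map φ).app_surjective ⊤ (isAffineOpen_top _)
    have e : φ = (Scheme.ΓSpecIso B).inv ≫ (Spec.map φ).appTop ≫ (Scheme.ΓSpecIso C).hom := by simp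
    rw [e]
    exact (ConcreteCategory.bijective_of_isIso (Scheme.ΓSpecIso C).hom).2.comp
      (h.comp (ConcreteCategory.bijective_of_isIso (Scheme.ΓSpecIso B).inv).2)
  algebraize [ρ.hom, φ.hom, (ρ ≫ φ).hom]
  haveI : Module.FinitePresentation R B := Module.FinitePresentation.of_finite_of_finitePresentation R B
  haveI : Module.FinitePresentation R C := Module.FinitePresentation.of_finite_of_finitePresentation R C
  haveI : Module.Projective R B := Module.Flat.projective_of_finitePresentation
  haveI : Module.Projective R C := Module.Flat.projective_of_finitePresentation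
  have hinj : Function.Injective φ.hom := injective_of_surjective_of_rankAtStalk_eq
    (AlgHom.mk φ.hom fun r => rfl : ↥B →ₐ[R] ↥C).toLinearMap hsurj fun y => by
      have h2 := congrFun (RingHom.finrank_algebraMap (R := R) (S := B)) y
      have h1 := congrFun (RingHom.finrank_algebraMap (R := R) (S := C)) y
      exact h2.symm.trans ((r2 y).trans ((r1 y).symm.trans h1))
  haveI : IsIso φ := (ConcreteCategory.isIso_iff_bijective φ).2 ⟨hinj, hsurj⟩
  infer_instance

/-- The affine case. -/
theorem isIso_of_deg_affine {d : ℕ} {Z O T : Scheme.{u}} [IsAffine T] (i : Z ⟶ O) [IsClosedImmersion i] (p : O ⟶ T)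
    (hZ : Mor2.IsFinLocFreeOfDeg d (i ≫ p)) (hO : Mor2.IsFinLocFreeOfDeg d p) : IsIso i := by
  haveI := hO.1.1
  haveI : IsAffine O := isAffine_of_isAffineHom p
  haveI : IsAffine Z := isAffine_of_isAffineHom i
  obtain ⟨φ, hφ⟩ := Spec.map_surjective (Z.isoSpec.inv ≫ i ≫ O.isoSpec.hom)
  obtain ⟨ρ, hρ⟩ := Spec.map_surjective (O.isoSpec.inv ≫ p ≫ T.isoSpec.hom)
  haveI : IsClosedImmersion (Spec.map φ) := by rw [hφ]; infer_instance
  have h1 : IsPullback O.isoSpec.hom p (Spec.map ρ) T.isoSpec.hom :=
    IsPullback.of_horiz_isIso ⟨by rw [hρ, Iso.hom_inv_id_assoc]⟩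
  have h2 : IsPullback O.isoSpec.inv (Spec.map ρ) p T.isoSpec.inv :=
    IsPullback.of_horiz_isIso ⟨by rw [hρ]; simp only [Category.assoc, Iso.hom_inv_id, Category.comp_id]⟩
  have h3 : IsPullback Z.isoSpec.inv (Spec.map φ ≫ Spec.map ρ) (i ≫ p) T.isoSpec.inv :=
    IsPullback.of_horiz_isIso ⟨by rw [hφ, hρ]; simp only [Category.assoc, Iso.hom_inv_id, Category.comp_id,
      Iso.hom_inv_id_assoc]⟩
  haveI := isIso_of_deg_spec ρ φ (HilbBC25.isFinLocFreeOfDeg_of_isPullback h3 hZ)
    (HilbBC25.isFinLocFreeOfDeg_of_isPullback h2 hO)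
  have e : i = Z.isoSpec.hom ≫ Spec.map φ ≫ O.isoSpec.inv := by
    rw [hφ]; simp only [Category.assoc, Iso.hom_inv_id, Category.comp_id, Iso.hom_inv_id_assoc]
  rw [e]
  infer_instance

/-- Closed immersions between finite locally free schemes of the same degree are isomorphisms. -/
theorem isIso_of_deg {d : ℕ} {Z O T : Scheme.{u}} (i : Z ⟶ O) [IsClosedImmersion i] (p : O ⟶ T)
    (hZ : Mor2.IsFinLocFreeOfDeg d (i ≫ p)) (hO : Mor2.IsFinLocFreeOfDeg d p) : IsIso i := by
  rw [← MorphismProperty.isomorphisms.iff,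
    IsZariskiLocalAtTarget.iff_of_openCover (P := MorphismProperty.isomorphisms Scheme)
      (T.affineCover.pullback₁ p)]
  intro k
  let g : T.affineCover.X k ⟶ T := T.affineCover.f k
  show IsIso (pullback.snd i (pullback.fst p g))
  exact isIso_of_deg_affine _ (pullback.snd p g)
    (HilbBC25.isFinLocFreeOfDeg_of_isPullback
      ((IsPullback.of_hasPullback i (pullback.fst p g)).paste_vert (IsPullback.of_hasPullback p g)) hZ)
    (HilbBC25.isFinLocFreeOfDeg_of_isPullback (IsPullback.of_hasPullback p g) hO)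

end Groth.Agent.GrpdEt19
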