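import Groth.Agent.Lib.GrpdB.Calc
import Mathlib

/-!
# The restriction of a groupoid scheme along a map of objects
-/

set_option autoImplicit false
set_option linter.style.haveILetI false
set_option backward.isDefEq.respectTransparency.types false

universe u

open CategoryTheory CategoryTheory.Limits AlgebraicGeometry

noncomputable section

namespace Groth.Agent.GrpdEt19

open GrpdB

variable {S : Scheme.{u}} (G : Grpd.GroupoidScheme S) {W : Scheme.{u}} (a : W ⟶ G.U)

/-- `a × a` on pairs of objects. -/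
def pairMap : pullback (a ≫ G.pU) (a ≫ G.pU) ⟶ pullback G.pU G.pU :=
  pullback.map (a ≫ G.pU) (a ≫ G.pU) G.pU G.pU a a (𝟙 S) (Category.comp_id _) (Category.comp_id _)

/-- The arrows of the restriction. -/
abbrev rR : Scheme.{u} := pullback G.j (pairMap G a)

/-- The map to the arrows. -/
def rF : rR G a ⟶ G.R := pullback.fst _ _
/-- The new source. -/
def rS : rR G a ⟶ W := pullback.snd G.j (pairMap G a) ≫ pullback.snd (a ≫ G.pU) (a ≫ G.pU)
/-- The new target. -/
def rT : rR G a ⟶ W := pullback.snd G.j (pairMap G a) ≫ pullback.fst (a ≫ G.pU) (a ≫ G.pU)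

@[reassoc]
theorem rF_s : rF G a ≫ G.s = rS G a ≫ a := by
  have h := congrArg (· ≫ pullback.snd G.pU G.pU) (pullback.condition (f := G.j) (g := pairMap G a))
  simp only [Category.assoc, j_snd, pairMap, pullback.lift_snd] at h
  exact h.trans (Category.assoc _ _ _).symm

@[reassoc]
theorem rF_t : rF G a ≫ G.t = rT G a ≫ a := by
  have h := congrArg (· ≫ pullback.fst G.pU G.pU) (pullback.condition (f := G.j) (g := pairMap G a))
  simp only [Category.assoc, j_fst, pairMap, pullback.lift_fst] at h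
  exact h.trans (Category.assoc _ _ _).symm

variable {T T' : Scheme.{u}}

/-- An arrow of the restriction from its components. -/
def rMk (q : T ⟶ G.R) (tt ss : T ⟶ W) (ht : q ≫ G.t = tt ≫ a) (hs : q ≫ G.s = ss ≫ a) : T ⟶ rR G a :=
  pullback.lift q (pullback.lift tt ss (by
    rw [← Category.assoc, ← ht, Category.assoc, G.t_over, ← Category.assoc, ← hs, Category.assoc, G.s_over]))
    (by
      apply pullback.hom_ext
      · rw [Category.assoc, j_fst, pairMap, Category.assoc, pullback.lift_fst, pullback.lift_fst_assoc, ht]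
      · rw [Category.assoc, j_snd, pairMap, Category.assoc, pullback.lift_snd, pullback.lift_snd_assoc, hs])

variable {G a}

@[reassoc (attr := simp)]
theorem rMk_F (q : T ⟶ G.R) (tt ss : T ⟶ W) (ht : q ≫ G.t = tt ≫ a) (hs : q ≫ G.s = ss ≫ a) :
    rMk G a q tt ss ht hs ≫ rF G a = q := pullback.lift_fst _ _ _

@[reassoc (attr := simp)]
theorem rMk_T (q : T ⟶ G.R) (tt ss : T ⟶ W) (ht : q ≫ G.t = tt ≫ a) (hs : q ≫ G.s = ss ≫ a) :
    rMk G a q tt ss ht hs ≫ rT G a = tt := by
  rw [rT, rMk, pullback.lift_snd_assoc, pullback.lift_fst]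

@[reassoc (attr := simp)]
theorem rMk_S (q : T ⟶ G.R) (tt ss : T ⟶ W) (ht : q ≫ G.t = tt ≫ a) (hs : q ≫ G.s = ss ≫ a) :
    rMk G a q tt ss ht hs ≫ rS G a = ss := by
  rw [rS, rMk, pullback.lift_snd_assoc, pullback.lift_snd]

theorem rR_ext {f g : T ⟶ rR G a} (h₁ : f ≫ rF G a = g ≫ rF G a) (h₂ : f ≫ rT G a = g ≫ rT G a)
    (h₃ : f ≫ rS G a = g ≫ rS G a) : f = g := by
  apply pullback.hom_ext h₁
  apply pullback.hom_ext
  · rw [Category.assoc, Category.assoc]; exact h₂
  · rw [Category.assoc, Category.assoc]; exact h₃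

theorem rcond (α β : T ⟶ rR G a) (h : α ≫ rS G a = β ≫ rT G a) :
    (α ≫ rF G a) ≫ G.s = (β ≫ rF G a) ≫ G.t := by
  rw [Category.assoc, rF_s, ← Category.assoc, h, Category.assoc, Category.assoc, rF_t]

variable (G a) in
/-- The composition of the restriction. -/
def rC : pullback (rS G a) (rT G a) ⟶ rR G a :=
  rMk G a (cmp G (pullback.fst _ _ ≫ rF G a) (pullback.snd _ _ ≫ rF G a) (rcond _ _ pullback.condition))
    (pullback.fst _ _ ≫ rT G a) (pullback.snd _ _ ≫ rS G a)
    (by rw [cmp_t, Category.assoc, rF_t, ← Category.assoc])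
    (by rw [cmp_s, Category.assoc, rF_s, ← Category.assoc])

theorem rC_F (α β : T ⟶ rR G a) (h : α ≫ rS G a = β ≫ rT G a) :
    (pullback.lift α β h ≫ rC G a) ≫ rF G a = cmp G (α ≫ rF G a) (β ≫ rF G a) (rcond α β h) := by
  rw [Category.assoc, rC, rMk_F, comp_cmp]
  exact cmp_congr (pullback.lift_fst_assoc _ _ _ _) (pullback.lift_snd_assoc _ _ _ _) _

theorem rC_T (α β : T ⟶ rR G a) (h : α ≫ rS G a = β ≫ rT G a) :
    (pullback.lift α β h ≫ rC G a) ≫ rT G a = α ≫ rT G a := by
  rw [Category.assoc, rC, rMk_T, pullback.lift_fst_assoc]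

theorem rC_S (α β : T ⟶ rR G a) (h : α ≫ rS G a = β ≫ rT G a) :
    (pullback.lift α β h ≫ rC G a) ≫ rS G a = β ≫ rS G a := by
  rw [Category.assoc, rC, rMk_S, pullback.lift_snd_assoc]

variable (G a)

/-- The identity of the restriction. -/
def rE : W ⟶ rR G a :=
  rMk G a (a ≫ G.e) (𝟙 W) (𝟙 W) (by rw [Category.assoc, G.e_t, Category.comp_id, Category.id_comp])
    (by rw [Category.assoc, G.e_s, Category.comp_id, Category.id_comp])

/-- The inverse of the restriction. -/
def rI : rR G a ⟶ rR G a :=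
  rMk G a (rF G a ≫ G.i) (rS G a) (rT G a) (by rw [Category.assoc, G.i_t, rF_s])
    (by rw [Category.assoc, G.i_s, rF_t])

/-- The restriction of a groupoid scheme along `a`. -/
def restrict : Grpd.GroupoidScheme S where
  U := W
  R := rR G a
  pU := a ≫ G.pU
  pR := rF G a ≫ G.pR
  s := rS G a
  t := rT G a
  e := rE G a
  i := rI G a
  c := rC G a
  s_over := by rw [← Category.assoc, ← rF_s, Category.assoc, G.s_over]
  t_over := by rw [← Category.assoc, ← rF_t, Category.assoc, G.t_over]
  comp_s α β h := rC_S α β h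
  comp_t α β h := rC_T α β h
  assoc α β γ h₁ h₂ := by
    refine rR_ext ?_ (by simp only [rC_T]) (by simp only [rC_S])
    refine (rC_F _ _ _).trans (Eq.trans ?_ (rC_F _ _ _).symm)
    exact (cmp_congr (rC_F α β h₁) rfl _).trans
      ((cmp_assoc _ _ _ (rcond α β h₁) (rcond β γ h₂)).trans (cmp_congr rfl (rC_F β γ h₂).symm _))
  e_s := rMk_S _ _ _ _ _
  e_t := rMk_T _ _ _ _ _
  comp_e α := by
    refine rR_ext ?_ (rC_T _ _ _) (by rw [rC_S, Category.assoc, Category.assoc, rE, rMk_S, Category.comp_id])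
    rw [rC_F]
    refine (cmp_congr rfl (?_ : _ = ((α ≫ rF G a) ≫ G.s) ≫ G.e) _).trans (cmp_id' _ _ _)
    simp only [Category.assoc, rE, rMk_F, rF_s_assoc]
  e_comp α := by
    refine rR_ext ?_ (by rw [rC_T, Category.assoc, Category.assoc, rE, rMk_T, Category.comp_id]) (rC_S _ _ _)
    rw [rC_F]
    refine (cmp_congr (?_ : _ = ((α ≫ rF G a) ≫ G.t) ≫ G.e) rfl _).trans (id_cmp' _ _ _)
    simp only [Category.assoc, rE, rMk_F, rF_t_assoc]
  i_s := rMk_S _ _ _ _ _
  i_t := rMk_T _ _ _ _ _
  comp_i α := by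
    refine rR_ext ?_ (by rw [rC_T]; simp only [Category.assoc, rE, rMk_T, Category.comp_id])
      (by rw [rC_S]; simp only [Category.assoc, rI, rE, rMk_S, Category.comp_id])
    rw [rC_F]
    refine (cmp_congr rfl (?_ : _ = (α ≫ rF G a) ≫ G.i) _).trans ((G.comp_i _).trans ?_)
    · simp only [Category.assoc, rI, rMk_F]
    · simp only [Category.assoc, rE, rMk_F, rF_t_assoc]
  i_comp α := by
    refine rR_ext ?_ (by rw [rC_T]; simp only [Category.assoc, rI, rE, rMk_T, Category.comp_id])
      (by rw [rC_S]; simp only [Category.assoc, rE, rMk_S, Category.comp_id])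
    rw [rC_F]
    refine (cmp_congr (?_ : _ = (α ≫ rF G a) ≫ G.i) rfl _).trans ((G.i_comp _).trans ?_)
    · simp only [Category.assoc, rI, rMk_F]
    · simp only [Category.assoc, rE, rMk_F, rF_s_assoc]

/-- The projection of the restriction. -/
def restrictHom : Grpd.GroupoidScheme.Hom (restrict G a) G where
  fU := a
  fR := rF G a
  fU_over := rfl
  comm_s := rF_s G a
  comm_t := rF_t G a
  comm_c α β h := rC_F α β h

theorem isPullback_restrict : IsPullback (restrictHom G a).fR (restrict G a).j G.j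
    (pullback.map (restrict G a).pU (restrict G a).pU G.pU G.pU (restrictHom G a).fU (restrictHom G a).fU (𝟙 S)
      ((Category.comp_id _).trans (restrictHom G a).fU_over.symm)
      ((Category.comp_id _).trans (restrictHom G a).fU_over.symm)) := by
  have h : (restrict G a).j = pullback.snd G.j (pairMap G a) := by
    apply pullback.hom_ext
    · exact pullback.lift_fst _ _ _
    · exact pullback.lift_snd _ _ _
  rw [h]
  exact IsPullback.of_hasPullback G.j (pairMap G a)

end Groth.Agent.GrpdEt19
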