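import Groth.Agent.Lib.GrpdEt19.IsTr
import Groth.Agent.Lib.GrpdEt19.Restr
import Groth.Agent.Lib.GrpdSub19.Basic
import Mathlib

/-!
# The finite groupoid of translations on a space of pieces
-/

set_option autoImplicit false
set_option linter.style.haveILetI false
set_option backward.isDefEq.respectTransparency.types false
set_option maxHeartbeats 1000000

universe u

open CategoryTheory CategoryTheory.Limits AlgebraicGeometry TopologicalSpace

noncomputable section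

namespace Groth.Agent.GrpdEt19

open GrpdB

variable {S : Scheme.{u}} {G : Grpd.GroupoidScheme S}

section restr

variable {W : Scheme.{u}} (a : W ⟶ G.U)

/-- The projection of the restricted arrows to the base change of the source. -/
def rP : rR G a ⟶ pullback G.s a := pullback.lift (rF G a) (rS G a) (rF_s G a)

theorem rP_fst : rP a ≫ pullback.fst G.s a = rF G a := pullback.lift_fst _ _ _
theorem rP_snd : rP a ≫ pullback.snd G.s a = rS G a := pullback.lift_snd _ _ _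

theorem isPullback_rP : IsPullback (rP a) (rT G a) (pullback.fst G.s a ≫ G.t) a := by
  have w : rP a ≫ pullback.fst G.s a ≫ G.t = rT G a ≫ a := by rw [rP, pullback.lift_fst_assoc, rF_t]
  refine ⟨⟨w⟩, ⟨PullbackCone.IsLimit.mk _
    (fun c => rMk G a (c.fst ≫ pullback.fst G.s a) c.snd (c.fst ≫ pullback.snd G.s a)
      (by rw [Category.assoc, c.condition]) (by rw [Category.assoc, pullback.condition, Category.assoc]))
    (fun c => ?_) (fun c => rMk_T _ _ _ _ _) (fun c m h₁ h₂ => ?_)⟩⟩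
  · apply pullback.hom_ext
    · rw [Category.assoc, rP, pullback.lift_fst, rMk_F]
    · rw [Category.assoc, rP, pullback.lift_snd, rMk_S]
  · refine rR_ext ?_ (by rw [rMk_T]; exact h₂) ?_
    · rw [rMk_F, ← h₁, rP, Category.assoc, pullback.lift_fst]
    · rw [rMk_S, ← h₁, rP, Category.assoc, pullback.lift_snd]

theorem isOpenImmersion_of_rP [Etale a] {P : Scheme.{u}} (ι : P ⟶ rR G a)
    (h : IsOpenImmersion (ι ≫ rP a)) : IsOpenImmersion ι := by
  haveI : Etale (rP a) := MorphismProperty.of_isPullback (isPullback_rP a).flip ‹Etale a›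
  haveI := h
  haveI : Etale ι := MorphismProperty.of_postcomp (W := @Etale) ι (rP a)
    (show Etale (rP a) from inferInstance) inferInstance
  haveI : Mono ι := mono_of_mono ι (rP a)
  exact IsOpenImmersion.of_flat_of_mono ι

end restr

/-- Composition of morphisms of groupoid schemes. -/
def homComp {G₁ G₂ G₃ : Grpd.GroupoidScheme S} (f : Grpd.GroupoidScheme.Hom G₁ G₂)
    (g : Grpd.GroupoidScheme.Hom G₂ G₃) : Grpd.GroupoidScheme.Hom G₁ G₃ where
  fU := f.fU ≫ g.fU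
  fR := f.fR ≫ g.fR
  fU_over := by rw [Category.assoc, g.fU_over, f.fU_over]
  comm_s := by rw [Category.assoc, g.comm_s, reassoc_of% f.comm_s]
  comm_t := by rw [Category.assoc, g.comm_t, reassoc_of% f.comm_t]
  comm_c α β h := (Category.assoc _ _ _).symm.trans ((congrArg (· ≫ g.fR) (f.comm_c α β h)).trans
    ((g.comm_c (α ≫ f.fR) (β ≫ f.fR) _).trans (cmp_congr (Category.assoc _ _ _) (Category.assoc _ _ _) _)))

variable {X : G.R.Opens}

/-- Near a point of a space of pieces over which all translated pieces exist, the universal piece is a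
finite locally free groupoid mapping to the restriction of `G`. -/
theorem exists_groupoid (D : PieceSpace G X) (w₀ : D.W)
    (h₀ : ∀ z : D.Q.toScheme, qπ D z = w₀ → ∃ (Y : Scheme.{u}) (k : Y ⟶ D.Q.toScheme) (l : Y ⟶ D.W),
      IsTr D (k ≫ qσ D) (k ≫ qπ D) l ∧ ∃ y : Y, k y = z ∧ l y = w₀) :
    ∃ (W₁ : D.W.Opens) (GP : Grpd.GroupoidScheme S) (fU : GP.U ⟶ W₁.toScheme)
      (φ : Grpd.GroupoidScheme.Hom GP G) (w₁ : GP.U) (jQ : GP.R ⟶ D.Q.toScheme),
      IsIso fU ∧ φ.fU = fU ≫ W₁.ι ≫ D.a ∧ W₁.ι (fU w₁) = w₀ ∧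
      IsFinite GP.s ∧ Flat GP.s ∧ LocallyOfFinitePresentation GP.s ∧ IsFinite GP.t ∧
      Flat GP.t ∧ LocallyOfFinitePresentation GP.t ∧
      (∀ r : GP.R, GP.s r = w₁ → GP.t r = w₁) ∧
      IsOpenImmersion jQ ∧ jQ ≫ qσ D = φ.fR ∧ jQ ≫ qπ D = GP.s ≫ fU ≫ W₁.ι ∧
      ∀ z : D.Q.toScheme, qπ D z = w₀ → ∃ r : GP.R, jQ r = z := by
  obtain ⟨T₁, g, hg, hdom⟩ := exists_dom' D
  haveI hfin : IsFinite (qπ D) := D.deg.1.1
  haveI : Flat (qπ D) := D.deg.1.2.1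
  haveI : LocallyOfFinitePresentation (qπ D) := D.deg.1.2.2
  -- where all pieces over a point can be translated
  let W₁ : D.W.Opens := ⟨(qπ D '' ((T₁ : Set D.Q.toScheme)ᶜ))ᶜ,
    ((qπ D).isClosedMap _ T₁.2.isClosed_compl).isOpen_compl⟩
  have hW₁ : ∀ z, qπ D z ∈ W₁ → z ∈ T₁ := fun z hz => by
    by_contra hn
    exact hz ⟨z, hn, rfl⟩
  have hw₀ : w₀ ∈ W₁ := by
    rintro ⟨z, hz, hzw⟩
    obtain ⟨Y, k, l, hl, y, rfl, -⟩ := h₀ z hzw
    exact hz (hdom Y k l hl y)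
  let P : D.Q.toScheme.Opens := qπ D ⁻¹ᵁ W₁
  have hPT : P ≤ T₁ := fun z hz => hW₁ z hz
  let πP : P.toScheme ⟶ W₁.toScheme := qπ D ∣_ W₁
  have hπP : πP ≫ W₁.ι = P.ι ≫ qπ D := morphismRestrict_ι _ _
  let gP : P.toScheme ⟶ D.W := D.Q.toScheme.homOfLE hPT ≫ g
  let σP := P.ι ≫ qσ D
  have hgP : IsTr D σP (P.ι ≫ qπ D) gP :=
    (hg.comp (D.Q.toScheme.homOfLE hPT)).congr' (Scheme.homOfLE_ι_assoc _ _ _) (Scheme.homOfLE_ι_assoc _ _ _) rfl
  -- factoring through `P`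
  have hfac : ∀ {V : Scheme.{u}} (q : V ⟶ G.R) (ss : V ⟶ W₁.toScheme) (hs : q ≫ G.s = (ss ≫ W₁.ι) ≫ D.a),
      Mem D q (ss ≫ W₁.ι) hs → ∃ k : V ⟶ P.toScheme, k ≫ σP = q ∧ k ≫ πP = ss := by
    intro V q ss hs hm
    let k₀ := toQ D q _ hs hm
    let k : V ⟶ P.toScheme := IsOpenImmersion.lift P.ι k₀ (by
      rintro _ ⟨v, rfl⟩
      rw [P.range_ι]
      show qπ D (k₀ v) ∈ W₁
      rw [← Scheme.Hom.comp_apply, toQ_π]
      exact (ss v).2)
    have hk : k ≫ P.ι = k₀ := IsOpenImmersion.lift_fac _ _ _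
    refine ⟨k, by rw [← Category.assoc, hk, toQ_σ], ?_⟩
    rw [← cancel_mono W₁.ι, Category.assoc, hπP, ← Category.assoc, hk, toQ_π]
  -- translations of translated pieces are translated pieces
  have hgW : ∀ z : P.toScheme, gP z ∈ W₁ := by
    rintro z ⟨z', hz', he⟩
    obtain ⟨y, hy₁, hy₂⟩ := Scheme.Pullback.exists_preimage_pullback (f := gP) (g := qπ D) z z' he.symm
    let p₁ := pullback.fst gP (qπ D)
    let p₂ := pullback.snd gP (qπ D)
    have A := hgP.comp p₁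
    have hp : (p₂ ≫ qσ D) ≫ G.s = (p₁ ≫ gP) ≫ D.a := by
      rw [Category.assoc, qσ_s, ← Category.assoc, ← pullback.condition]
    have hm := (A.mem_iff' _ hp).1 (mem_of_factor D p₂ _ _ rfl pullback.condition.symm hp)
    have e₁ : p₁ ≫ P.ι ≫ qπ D = (p₁ ≫ πP) ≫ W₁.ι := by rw [Category.assoc, hπP]
    obtain ⟨k, hkσ, hkπ⟩ := hfac _ (p₁ ≫ πP) (by rw [← e₁, cmp_s, A.src]) (IsTr.mem_congr hm rfl e₁ _)
    have B := (hgP.comp k).congr' hkσ (show k ≫ P.ι ≫ qπ D = p₁ ≫ P.ι ≫ qπ D by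
      rw [← hπP, reassoc_of% hkπ]) rfl
    have C := ((A.trans _ hp _).2 B).congr' rfl pullback.condition rfl
    exact hz' (hy₂ ▸ hdom _ p₂ _ C y)
  let ψ : P.toScheme ⟶ W₁.toScheme := IsOpenImmersion.lift W₁.ι gP (by
    rintro _ ⟨z, rfl⟩; rw [W₁.range_ι]; exact hgW z)
  have hψ : ψ ≫ W₁.ι = gP := IsOpenImmersion.lift_fac _ _ _
  let a₁ := W₁.ι ≫ D.a
  haveI := D.etale
  let ιP : P.toScheme ⟶ rR G a₁ := rMk G a₁ σP ψ πP (by rw [← hgP.tgt, ← hψ, Category.assoc])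
    (by rw [hgP.src, ← hπP, Category.assoc])
  haveI : IsOpenImmersion ιP := by
    refine isOpenImmersion_of_rP a₁ ιP ?_
    have e : (ιP ≫ rP a₁) ≫ bcm G.s W₁.ι rfl = P.ι ≫ D.Q.ι := by
      apply pullback.hom_ext
      · rw [Category.assoc, bcm_fst, Category.assoc, rP_fst, rMk_F]
        simp only [σP, qσ, Category.assoc]
      · rw [Category.assoc, bcm_snd, ← Category.assoc, Category.assoc ιP, rP_snd, rMk_S, hπP]
        simp only [qπ, Category.assoc]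
    haveI : IsOpenImmersion (bcm G.s W₁.ι (rfl : W₁.ι ≫ D.a = a₁)) :=
      MorphismProperty.of_isPullback (isPullback_bcm G.s W₁.ι rfl).flip inferInstance
    haveI : IsOpenImmersion ((ιP ≫ rP a₁) ≫ bcm G.s W₁.ι rfl) := by rw [e]; infer_instance
    exact IsOpenImmersion.of_comp _ (bcm G.s W₁.ι (rfl : W₁.ι ≫ D.a = a₁))
  have hmkP : ∀ {V : Scheme.{u}} (q : V ⟶ G.R) (ss tt : V ⟶ W₁.toScheme) (hs : q ≫ G.s = (ss ≫ W₁.ι) ≫ D.a),
      Mem D q (ss ≫ W₁.ι) hs → IsTr D q (ss ≫ W₁.ι) (tt ≫ W₁.ι) →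
      ∃ k : V ⟶ P.toScheme, k ≫ σP = q ∧ k ≫ πP = ss ∧ k ≫ ψ = tt := by
    intro V q ss tt hs hm htr
    obtain ⟨k, hkσ, hkπ⟩ := hfac q ss hs hm
    refine ⟨k, hkσ, hkπ, ?_⟩
    rw [← cancel_mono W₁.ι, Category.assoc, hψ]
    exact ((hgP.comp k).congr' hkσ (by rw [← hπP, reassoc_of% hkπ]) rfl).uniq htr
  obtain ⟨eP, heσ, heπ, heψ⟩ := hmkP ((W₁.ι ≫ D.a) ≫ G.e) (𝟙 _) (𝟙 _)
    (by rw [Category.assoc _ G.e, G.e_s, Category.comp_id, Category.id_comp])
    (mem_unit D _ _ _ (by rw [Category.id_comp]))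
    ((IsTr.unit W₁.ι ((W₁.ι ≫ D.a) ≫ G.e) rfl).congr' rfl (Category.id_comp _).symm (Category.id_comp _).symm)
  have hsi : (σP ≫ G.i) ≫ G.s = gP ≫ D.a := by rw [Category.assoc, G.i_s, hgP.tgt]
  have hci : cmp G (σP ≫ G.i) σP (hsi.trans hgP.tgt) = ((P.ι ≫ qπ D) ≫ D.a) ≫ G.e := by
    rw [← hgP.src, Category.assoc σP G.s G.e]
    exact G.i_comp σP
  obtain ⟨iP, hiσ, hiπ, hiψ⟩ := hmkP (σP ≫ G.i) ψ πP (by rw [hψ, hsi])
    (IsTr.mem_congr ((hgP.mem_iff' _ hsi).2 (mem_unit D _ _ _ hci)) rfl hψ.symm _)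
    (((hgP.trans _ hsi (P.ι ≫ qπ D)).2 (IsTr.unit _ _ hci)).congr' rfl hψ.symm hπP.symm)
  let pα := pullback.fst (ιP ≫ rS G a₁) (ιP ≫ rT G a₁)
  let pβ := pullback.snd (ιP ≫ rS G a₁) (ιP ≫ rT G a₁)
  have hF : ιP ≫ rF G a₁ = σP := rMk_F _ _ _ _ _
  have hS : ιP ≫ rS G a₁ = πP := rMk_S _ _ _ _ _
  have hT : ιP ≫ rT G a₁ = ψ := rMk_T _ _ _ _ _
  have hαβ : pα ≫ πP = pβ ≫ ψ :=
    ((congrArg (pα ≫ ·) hS).symm.trans pullback.condition).trans (congrArg (pβ ≫ ·) hT)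
  have A := hgP.comp pβ
  have hαs : (pα ≫ σP) ≫ G.s = (pβ ≫ gP) ≫ D.a := by
    rw [Category.assoc, hgP.src, ← hπP, ← hψ, Category.assoc πP, reassoc_of% hαβ]; simp only [Category.assoc]
  have hwα : pα ≫ P.ι ≫ qπ D = pβ ≫ gP := by rw [← hπP, ← hψ, reassoc_of% hαβ]
  have hwβ : pβ ≫ P.ι ≫ qπ D = (pβ ≫ πP) ≫ W₁.ι := by rw [Category.assoc, hπP]
  have B : IsTr D (pα ≫ σP) (pβ ≫ gP) (pα ≫ gP) := (hgP.comp pα).congr' rfl hwα rfl
  obtain ⟨cP, hcσ, hcπ, hcψ⟩ := hmkP (cmp G (pα ≫ σP) (pβ ≫ σP) (hαs.trans A.tgt)) (pβ ≫ πP) (pα ≫ ψ)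
    (by rw [← hwβ, cmp_s, A.src])
    (IsTr.mem_congr ((A.mem_iff' _ hαs).1 (IsTr.mem_congr (mem_of_factor D (pα ≫ P.ι) _ _ rfl rfl
      (by simp only [Category.assoc]; rw [qσ_s])) (Category.assoc _ _ _)
      ((Category.assoc _ _ _).trans hwα) hαs)) rfl hwβ _)
    (((A.trans _ hαs _).1 B).congr' rfl hwβ (by rw [Category.assoc, hψ]))
  let d : GrpdSub19.SubData (restrict G a₁) ιP :=
    { e := eP
      i := iP
      c := cP
      he := by
        show eP ≫ ιP = rE G a₁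
        refine rR_ext ?_ ?_ ?_ <;> simp only [Category.assoc, ιP, rE, rMk_F, rMk_S, rMk_T]
        exacts [heσ, heψ, heπ]
      hi := by
        show iP ≫ ιP = ιP ≫ rI G a₁
        refine rR_ext ?_ ?_ ?_ <;> simp only [Category.assoc, ιP, rI, rMk_F, rMk_S, rMk_T, rMk_F_assoc]
        exacts [hiσ, hiψ, hiπ]
      hc := by
        refine rR_ext ?_ ?_ ?_
        · refine Eq.trans ?_ (rC_F _ _ _).symm
          exact ((Category.assoc cP ιP _).trans (congrArg (cP ≫ ·) hF)).trans (hcσ.trans (cmp_congr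
            ((congrArg (pα ≫ ·) hF).symm.trans (Category.assoc pα ιP _).symm)
            ((congrArg (pβ ≫ ·) hF).symm.trans (Category.assoc pβ ιP _).symm) _))
        · refine Eq.trans ?_ (rC_T _ _ _).symm
          exact ((Category.assoc cP ιP _).trans (congrArg (cP ≫ ·) hT)).trans (hcψ.trans
            ((congrArg (pα ≫ ·) hT).symm.trans (Category.assoc pα ιP _).symm))
        · refine Eq.trans ?_ (rC_S _ _ _).symm
          exact ((Category.assoc cP ιP _).trans (congrArg (cP ≫ ·) hS)).trans (hcπ.trans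
            ((congrArg (pβ ≫ ·) hS).symm.trans (Category.assoc pβ ιP _).symm)) }
  haveI : @Mono Scheme _ P.toScheme (restrict G a₁).R ιP := (inferInstance : Mono ιP)
  haveI hfs : IsFinite πP := IsZariskiLocalAtTarget.restrict ‹IsFinite (qπ D)› W₁
  haveI hfl : Flat πP := IsZariskiLocalAtTarget.restrict ‹Flat (qπ D)› W₁
  haveI hfp : LocallyOfFinitePresentation πP :=
    IsZariskiLocalAtTarget.restrict ‹LocallyOfFinitePresentation (qπ D)› W₁
  have hii : rI G a₁ ≫ rI G a₁ = 𝟙 _ := GrpQuot.i_i (restrict G a₁)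
  have hiι : iP ≫ ιP = ιP ≫ rI G a₁ := d.hi
  have hiP : iP ≫ iP = 𝟙 _ := by
    rw [← cancel_mono ιP, Category.assoc, hiι, reassoc_of% hiι, hii, Category.comp_id, Category.id_comp]
  haveI : IsIso iP := ⟨iP, hiP, hiP⟩
  have hψπ : ψ = iP ≫ πP := hiπ.symm
  haveI hgs : IsFinite ψ := by rw [hψπ]; infer_instance
  haveI hgl : Flat ψ := by rw [hψπ]; infer_instance
  haveI hgp : LocallyOfFinitePresentation ψ := by rw [hψπ]; infer_instance
  have horb : ∀ r : P.toScheme, πP r = ⟨w₀, hw₀⟩ → ψ r = ⟨w₀, hw₀⟩ := fun r hr => by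
    have hrw : qπ D (P.ι r) = w₀ := by
      rw [← Scheme.Hom.comp_apply, ← hπP, Scheme.Hom.comp_apply, hr]; rfl
    obtain ⟨Y, k, l, hl, y, hky, hly⟩ := h₀ (P.ι r) hrw
    let V : Y.Opens := k ⁻¹ᵁ P
    have hyV : y ∈ V := by show k y ∈ P; rw [hky]; exact r.2
    let kP : V.toScheme ⟶ P.toScheme := k ∣_ P
    have hkP : kP ≫ P.ι = V.ι ≫ k := morphismRestrict_ι _ _
    have e := ((hgP.comp kP).congr' (by rw [← Category.assoc, hkP, Category.assoc])
      (by rw [← Category.assoc, hkP, Category.assoc]) rfl).uniq (hl.comp V.ι)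
    refine W₁.ι.isOpenEmbedding.injective ?_
    rw [← Scheme.Hom.comp_apply, hψ]
    have hry : kP ⟨y, hyV⟩ = r := P.ι.isOpenEmbedding.injective (by
      rw [← Scheme.Hom.comp_apply, hkP]; exact hky)
    rw [← hry, ← Scheme.Hom.comp_apply, e]
    exact hly
  have hfiber : ∀ z : D.Q.toScheme, qπ D z = w₀ → z ∈ P := fun z hz => by
    show qπ D z ∈ W₁
    rw [hz]; exact hw₀
  have hs1 : IsFinite (ιP ≫ rS G a₁) := by rw [hS]; exact hfs
  have hs2 : Flat (ιP ≫ rS G a₁) := by rw [hS]; exact hfl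
  have hs3 : LocallyOfFinitePresentation (ιP ≫ rS G a₁) := by rw [hS]; exact hfp
  have ht1 : IsFinite (ιP ≫ rT G a₁) := by rw [hT]; exact hgs
  have ht2 : Flat (ιP ≫ rT G a₁) := by rw [hT]; exact hgl
  have ht3 : LocallyOfFinitePresentation (ιP ≫ rT G a₁) := by rw [hT]; exact hgp
  have hπι : P.ι ≫ qπ D = (ιP ≫ rS G a₁) ≫ 𝟙 _ ≫ W₁.ι := by rw [hS, Category.id_comp, hπP]
  exact ⟨W₁, GrpdSub19.sub d, 𝟙 _, homComp (GrpdSub19.incl d) (restrictHom G a₁), ⟨w₀, hw₀⟩, P.ι,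
    IsIso.id _, rfl, rfl, hs1, hs2, hs3, ht1, ht2, ht3, fun r hr => ((congrArg (fun m : P.toScheme ⟶ W₁.toScheme => m r) hT).trans
      (horb r ((congrArg (fun m : P.toScheme ⟶ W₁.toScheme => m r) hS).symm.trans hr))),
    inferInstanceAs (IsOpenImmersion P.ι), hF.symm, hπι, fun z hz => ⟨⟨z, hfiber z hz⟩, rfl⟩⟩

end Groth.Agent.GrpdEt19
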