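import Groth.Agent.Lib.GrpdEt19.Translate
import Mathlib

/-!
# The relation "`g` classifies the translate by `q` of the piece at `w`"
-/

set_option autoImplicit false
set_option linter.style.haveILetI false
set_option backward.isDefEq.respectTransparency.types false
set_option maxHeartbeats 1000000

universe u

open CategoryTheory CategoryTheory.Limits AlgebraicGeometry TopologicalSpace

noncomputable section

namespace Groth.Agent.GrpdEt19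

open GrpdB

variable {S : Scheme.{u}} {G : Grpd.GroupoidScheme S} {X : G.R.Opens} {D : PieceSpace G X} {T T' : Scheme.{u}}

/-- `g` classifies the translate by `q` of the piece at `w`. -/
def IsTr (D : PieceSpace G X) (q : T ⟶ G.R) (w g : T ⟶ D.W) : Prop :=
  ∃ (hq : q ≫ G.s = w ≫ D.a) (hg : g ≫ D.a = q ≫ G.t), bcm G.s g hg ⁻¹ᵁ D.Q = trPiece D.Q q w hq

theorem bcm_preimage_congr {y y' : T ⟶ G.U} (g : T ⟶ D.W) (h : g ≫ D.a = y) (e : y = y') :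
    ∀ (A : ∀ {z : T ⟶ G.U}, z = y → (pullback G.s z).Opens),
      bcm G.s g h ⁻¹ᵁ D.Q = A rfl → bcm G.s g (h.trans e) ⁻¹ᵁ D.Q = A e.symm := by
  subst e; intro A hA; exact hA

namespace IsTr

theorem congr' {q q' : T ⟶ G.R} {w w' g g' : T ⟶ D.W} (h : IsTr D q w g) (eq : q = q') (ew : w = w')
    (eg : g = g') : IsTr D q' w' g' := by
  subst eq ew eg; exact h

theorem src {q : T ⟶ G.R} {w g : T ⟶ D.W} (h : IsTr D q w g) : q ≫ G.s = w ≫ D.a := h.1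

theorem tgt {q : T ⟶ G.R} {w g : T ⟶ D.W} (h : IsTr D q w g) : g ≫ D.a = q ≫ G.t := h.2.1

theorem comp {q : T ⟶ G.R} {w g : T ⟶ D.W} (H : IsTr D q w g) (h : T' ⟶ T) :
    IsTr D (h ≫ q) (h ≫ w) (h ≫ g) := by
  obtain ⟨hq, hg, hQ⟩ := H
  refine ⟨by rw [Category.assoc, hq, Category.assoc], by rw [Category.assoc, hg, Category.assoc], ?_⟩
  rw [trPiece_comp D.Q q w hq h, ← hQ, ← Scheme.Hom.comp_preimage, bcm_comp]

theorem unit (w : T ⟶ D.W) (q : T ⟶ G.R) (he : q = (w ≫ D.a) ≫ G.e) : IsTr D q w w := by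
  have hq : q ≫ G.s = w ≫ D.a := by rw [he, Category.assoc, G.e_s, Category.comp_id]
  exact ⟨hq, by rw [he, Category.assoc _ G.e, G.e_t, Category.comp_id], (trPiece_unit D.Q q w hq he).symm⟩

theorem uniq {q : T ⟶ G.R} {w g g' : T ⟶ D.W} (h : IsTr D q w g) (h' : IsTr D q w g') : g = g' :=
  D.uniq T _ g g' h.tgt h'.tgt (h.2.2.trans h'.2.2.symm)

theorem trans {q : T ⟶ G.R} {w g : T ⟶ D.W} (H : IsTr D q w g) (p : T ⟶ G.R) (hp : p ≫ G.s = g ≫ D.a)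
    (g' : T ⟶ D.W) : IsTr D p g g' ↔ IsTr D (cmp G p q (hp.trans H.tgt)) w g' := by
  obtain ⟨hq, hg, hQ⟩ := H
  have e : p ≫ G.t = cmp G p q (hp.trans hg) ≫ G.t := (cmp_t _ _ _).symm
  have key : ∀ {y : T ⟶ G.U} (ey : p ≫ G.t = y) (hy : g' ≫ D.a = y),
      (bcm G.s g' hy ⁻¹ᵁ D.Q = tr p hp ey ⁻¹ᵁ (bcm G.s g rfl ⁻¹ᵁ D.Q)) ↔
      (bcm G.s g' hy ⁻¹ᵁ D.Q = tr (cmp G p q (hp.trans hg)) (x := w ≫ D.a) (by rw [cmp_s, hq])
        (by rw [cmp_t, ey]) ⁻¹ᵁ (bcm G.s w rfl ⁻¹ᵁ D.Q)) := by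
    intro y ey hy
    rw [trPiece_trPiece D.Q q w hq g hg hQ p hp ey]
  constructor
  · rintro ⟨_, hy, h⟩
    refine ⟨by rw [cmp_s, hq], hy.trans e, ?_⟩
    have h' := (key rfl hy).1 h
    exact bcm_preimage_congr g' hy e (fun {z} hz => tr (cmp G p q (hp.trans hg)) (x := w ≫ D.a)
      (by rw [cmp_s, hq]) (by rw [cmp_t, hz]) ⁻¹ᵁ (bcm G.s w rfl ⁻¹ᵁ D.Q)) h'
  · rintro ⟨_, hy, h⟩
    refine ⟨hp, hy.trans e.symm, ?_⟩
    have h' := (key e hy).2 h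
    exact bcm_preimage_congr g' hy e.symm (fun {z} hz => tr p hp (by rw [e, hz]) ⁻¹ᵁ (bcm G.s g rfl ⁻¹ᵁ D.Q)) h'

theorem mem_iff' {q : T ⟶ G.R} {w g : T ⟶ D.W} (H : IsTr D q w g) (p : T ⟶ G.R) (hp : p ≫ G.s = g ≫ D.a) :
    Mem D p g hp ↔ Mem D (cmp G p q (hp.trans H.tgt)) w (by rw [cmp_s, H.src]) :=
  GrpdEt19.mem_iff D q w H.src g H.tgt H.2.2 p hp

theorem mem_congr {q q' : T ⟶ G.R} {w w' : T ⟶ D.W} {hq : q ≫ G.s = w ≫ D.a} (h : Mem D q w hq)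
    (eq : q = q') (ew : w = w') (hq' : q' ≫ G.s = w' ≫ D.a) : Mem D q' w' hq' := by
  subst eq ew; exact h

end IsTr

theorem exists_dom' (D : PieceSpace G X) : ∃ (T₁ : D.Q.toScheme.Opens) (g : T₁.toScheme ⟶ D.W),
    IsTr D (T₁.ι ≫ qσ D) (T₁.ι ≫ qπ D) g ∧
    ∀ (Y : Scheme.{u}) (k : Y ⟶ D.Q.toScheme) (l : Y ⟶ D.W), IsTr D (k ≫ qσ D) (k ≫ qπ D) l →
      ∀ y : Y, k y ∈ T₁ := by
  obtain ⟨T₁, g, hg, hgQ, hdom⟩ := exists_dom D
  exact ⟨T₁, g, ⟨_, hg, hgQ⟩, fun Y k l h => hdom Y k l h.tgt h.2.2⟩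

end Groth.Agent.GrpdEt19
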