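import Groth.Agent.Lib.GrpdEt19.Groupoid
import Groth.Agent.Lib.GrpQuot.Invariant
import Groth.Agent.Lib.GrpQuot.Restrict
import Groth.Prelude.Def_Dual3
import Mathlib

/-!
# Splitting a groupoid scheme near finitely many quasi-finite arrows
-/

set_option autoImplicit false
set_option linter.style.haveILetI false
set_option backward.isDefEq.respectTransparency.types false
set_option maxHeartbeats 1000000

universe u

open CategoryTheory CategoryTheory.Limits AlgebraicGeometry TopologicalSpace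

noncomputable section

namespace Groth.Agent.GrpdEt19

open GrpdB

section fieldPoint

variable {X Y : Scheme.{u}} {K : Type u} [Field K]

theorem exists_factor (a : Spec (CommRingCat.of K) ⟶ X) (τ : Spec (CommRingCat.of K)) (p : X) (hp : a τ = p) :
    ∃ ψ : X.residueField p ⟶ CommRingCat.of K, a = Spec.map ψ ≫ X.fromSpecResidueField p := by
  rw [Subsingleton.elim τ (IsLocalRing.closedPoint K)] at hp
  subst hp
  exact ⟨_, (Scheme.descResidueField_stalkClosedPointTo_fromSpecResidueField K X a).symm⟩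

theorem isIso_residueFieldMap_of_surjective (f : X ⟶ Y) (p : X)
    (hs : Function.Surjective (f.residueFieldMap p)) : IsIso (f.residueFieldMap p) :=
  (ConcreteCategory.isIso_iff_bijective _).2 ⟨(f.residueFieldMap p).hom.injective, hs⟩

/-- Field points at a point with trivial residue field extension are determined by their composite. -/
theorem fieldPoint_eq (f : X ⟶ Y) (p : X) (hs : Function.Surjective (f.residueFieldMap p))
    (a b : Spec (CommRingCat.of K) ⟶ X) (τ : Spec (CommRingCat.of K)) (ha : a τ = p) (hb : b τ = p)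
    (h : a ≫ f = b ≫ f) : a = b := by
  haveI := isIso_residueFieldMap_of_surjective f p hs
  obtain ⟨ψa, rfl⟩ := exists_factor a τ p ha
  obtain ⟨ψb, rfl⟩ := exists_factor b τ p hb
  rw [Category.assoc, Category.assoc, ← f.SpecMap_residueFieldMap_fromSpecResidueField, ← Category.assoc,
    ← Category.assoc, cancel_mono, ← Spec.map_comp, ← Spec.map_comp, Spec.map_inj, cancel_epi] at h
  rw [h]

/-- Field points lift through a point with trivial residue field extension. -/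
theorem exists_fieldPoint (f : X ⟶ Y) (p : X) (hs : Function.Surjective (f.residueFieldMap p))
    (y : Spec (CommRingCat.of K) ⟶ Y) (τ : Spec (CommRingCat.of K)) (hy : y τ = f p) :
    ∃ l : Spec (CommRingCat.of K) ⟶ X, l ≫ f = y ∧ l τ = p := by
  haveI := isIso_residueFieldMap_of_surjective f p hs
  obtain ⟨φ, rfl⟩ := exists_factor y τ _ hy
  refine ⟨Spec.map (inv (f.residueFieldMap p) ≫ φ) ≫ X.fromSpecResidueField p, ?_, ?_⟩
  · rw [Category.assoc, ← f.SpecMap_residueFieldMap_fromSpecResidueField, ← Spec.map_comp_assoc,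
      IsIso.hom_inv_id_assoc]
  · rw [Scheme.Hom.comp_apply, Scheme.fromSpecResidueField_apply]

end fieldPoint

variable {S : Scheme.{u}} {G : Grpd.GroupoidScheme S}

theorem quasiFiniteAt_of {X Y : Scheme.{u}} (f : X ⟶ Y) [LocallyOfFiniteType f] (x : X)
    (h : Dual3.QuasiFiniteAt f x) : f.QuasiFiniteAt x :=
  Scheme.Hom.quasiFiniteAt_iff_isOpen_singleton_asFiber.2 h

/-- A field-valued arrow at an identity is an identity. -/
theorem eq_e_of_apply_eq {K : Type u} [Field K] (r : Spec (CommRingCat.of K) ⟶ G.R)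
    (τ : Spec (CommRingCat.of K)) (u : G.U) (hr : r τ = G.e u) : r = (r ≫ G.s) ≫ G.e := by
  have hid : Function.Surjective ((𝟙 G.U : G.U ⟶ G.U).residueFieldMap u) :=
    (ConcreteCategory.bijective_of_isIso _).2
  refine fieldPoint_eq G.s (G.e u) (surjective_residueFieldMap_of_comp G.e G.s _ G.e_s u hid) _ _ τ hr ?_ ?_
  · rw [Scheme.Hom.comp_apply, Scheme.Hom.comp_apply, hr, s_e]
  · rw [Category.assoc _ G.e, G.e_s, Category.comp_id]

/-- Inclusion of the restriction to an invariant open. -/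
def restrHom (G : Grpd.GroupoidScheme S) (O : G.U.Opens) (hO : G.s ⁻¹ᵁ O = G.t ⁻¹ᵁ O) :
    Grpd.GroupoidScheme.Hom (GrpQuot.restr G O hO) G where
  fU := O.ι
  fR := (G.s ⁻¹ᵁ O).ι
  fU_over := rfl
  comm_s := (GrpQuot.sO_ι G O).symm
  comm_t := (GrpQuot.tO_ι G O hO).symm
  comm_c α β h := GrpQuot.cO_ι G O hO α β h

theorem exists_split (G : Grpd.GroupoidScheme S) [IsAffine G.U] [IsSeparated G.s] [Flat G.s]
    [LocallyOfFinitePresentation G.s] (u : G.U) (M : Set G.R) (hMfin : M.Finite)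
    (hMs : ∀ r ∈ M, G.s r = u) (hMt : ∀ r ∈ M, G.t r = u)
    (hMq : ∀ r ∈ M, Dual3.QuasiFiniteAt G.s r) (heM : G.e u ∈ M)
    (hM : ∀ (K : Type u) [Field K] (q r : Spec (CommRingCat.of K) ⟶ G.R) (h : q ≫ G.s = r ≫ G.t)
      (τ : Spec (CommRingCat.of K)), r τ ∈ M → (q τ ∈ M ↔ cmp G q r h τ ∈ M)) :
    ∃ (G' : Grpd.GroupoidScheme S) (φ : Grpd.GroupoidScheme.Hom G' G) (u' : ↥G'.U),
      IsAffine G'.U ∧ Etale φ.fU ∧ φ.fU u' = u ∧ IsIso (φ.fU.residueFieldMap u') ∧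
      IsPullback φ.fR G'.j G.j
        (pullback.map G'.pU G'.pU G.pU G.pU φ.fU φ.fU (𝟙 S)
          ((Category.comp_id _).trans φ.fU_over.symm) ((Category.comp_id _).trans φ.fU_over.symm)) ∧
      ∃ (P : Scheme.{u}) (ιP : P ⟶ G'.R), IsOpenImmersion ιP ∧
        (∃ eP : G'.U ⟶ P, eP ≫ ιP = G'.e) ∧ (∃ iP : P ⟶ P, iP ≫ ιP = ιP ≫ G'.i) ∧
        (∃ cP : pullback (ιP ≫ G'.s) (ιP ≫ G'.t) ⟶ P,
          cP ≫ ιP = pullback.map (ιP ≫ G'.s) (ιP ≫ G'.t) G'.s G'.t ιP ιP (𝟙 G'.U)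
            (Category.comp_id _) (Category.comp_id _) ≫ G'.c) ∧
        IsFinite (ιP ≫ G'.s) ∧ IsFinite (ιP ≫ G'.t) ∧
        ∀ r' : ↥G'.R, G'.s r' = u' → G'.t r' = u' → φ.fR r' ∈ M → ∃ p : ↥P, ιP p = r' := by
  obtain ⟨X, D, w, -, hwu, hres, hfib₀⟩ := exists_pieceSpace G u M hMfin hMs
    (fun r hr => quasiFiniteAt_of _ _ (hMq r hr)) heM
  haveI := D.etale
  have hfib : ∀ {T : Scheme.{u}} (p : T ⟶ G.R) (v : T ⟶ D.W) (hp : p ≫ G.s = v ≫ D.a) (τ : T), v τ = w →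
      (pullback.lift p v hp τ ∈ D.Q ↔ p τ ∈ M) := by
    intro T p v hp τ hτ
    rw [hfib₀ _ (by rw [← Scheme.Hom.comp_apply, pullback.lift_snd]; exact hτ), ← Scheme.Hom.comp_apply,
      pullback.lift_fst]
  -- pieces over `w` translate to the piece at `w`
  have h₀ : ∀ z : D.Q.toScheme, qπ D z = w → ∃ (Y : Scheme.{u}) (k : Y ⟶ D.Q.toScheme) (l : Y ⟶ D.W),
      IsTr D (k ≫ qσ D) (k ≫ qπ D) l ∧ ∃ y : Y, k y = z ∧ l y = w := by
    intro z hz
    let k : Spec (CommRingCat.of (D.Q.toScheme.residueField z)) ⟶ D.Q.toScheme :=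
      D.Q.toScheme.fromSpecResidueField z
    let τ : Spec (CommRingCat.of (D.Q.toScheme.residueField z)) := IsLocalRing.closedPoint _
    have hk : k τ = z := Scheme.fromSpecResidueField_apply _ _
    have hzM : qσ D z ∈ M := by
      rw [qσ, Scheme.Hom.comp_apply]
      exact (hfib₀ (D.Q.ι z) hz).1 z.2
    obtain ⟨l, hl, hlτ⟩ := exists_fieldPoint D.a w hres ((k ≫ qσ D) ≫ G.t) τ (by
      rw [Scheme.Hom.comp_apply, Scheme.Hom.comp_apply, hk, hMt _ hzM, hwu])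
    have hq : (k ≫ qσ D) ≫ G.s = (k ≫ qπ D) ≫ D.a := by rw [Category.assoc, qσ_s, Category.assoc]
    refine ⟨_, k, l, ⟨hq, hl, Opens.ext (Set.ext fun z' => ?_)⟩, τ, hk, hlτ⟩
    let kk : Spec (CommRingCat.of ((pullback G.s ((k ≫ qσ D) ≫ G.t)).residueField z')) ⟶ _ :=
      (pullback G.s ((k ≫ qσ D) ≫ G.t)).fromSpecResidueField z'
    let σ : Spec (CommRingCat.of ((pullback G.s ((k ≫ qσ D) ≫ G.t)).residueField z')) := IsLocalRing.closedPoint _
    let p := kk ≫ pullback.fst _ _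
    let h := kk ≫ pullback.snd _ _
    have hp : p ≫ G.s = h ≫ (k ≫ qσ D) ≫ G.t := by simp only [p, h, Category.assoc, pullback.condition]
    have e : pullback.lift p h hp σ = z' := by
      rw [show pullback.lift p h hp = kk from pullback.hom_ext (pullback.lift_fst _ _ _) (pullback.lift_snd _ _ _)]
      exact Scheme.fromSpecResidueField_apply _ _
    have hhτ : h σ = τ := Subsingleton.elim _ _
    have hr : (h ≫ k ≫ qσ D) σ ∈ M := by
      rw [Scheme.Hom.comp_apply, hhτ, Scheme.Hom.comp_apply, hk]; exact hzM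
    show bcm G.s l hl z' ∈ D.Q ↔ z' ∈ trPiece D.Q _ _ hq
    rw [← e, ← Scheme.Hom.comp_apply, lift_bcm, hfib _ _ _ _ (by rw [Scheme.Hom.comp_apply, hhτ, hlτ]),
      mem_trPiece, hfib _ _ _ _ (by rw [Scheme.Hom.comp_apply, hhτ, Scheme.Hom.comp_apply, hk, hz])]
    exact hM _ p (h ≫ k ≫ qσ D) _ σ hr
  obtain ⟨W₁, GP, fU, φ, w₁, jQ, hfU, hφU, hw₁, hs1, hs2, hs3, -, -, -, horb, hjQ, hjσ, hjπ, hjfib⟩ :=
    exists_groupoid D w h₀
  -- an invariant affine neighbourhood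
  obtain ⟨V, hV, hw₁V, -⟩ := exists_isAffineOpen_mem_and_subset (x := w₁) (U := (⊤ : GP.U.Opens)) trivial
  obtain ⟨W₂, hW₂, hw₁₂, -, hinv⟩ := GrpQuot.exists_invariant_affine (G := GP) w₁ V hV
    (fun r hr => by rw [horb r hr]; exact hw₁V)
  let H := GrpQuot.restr GP W₂ hinv
  let ρ := restrHom GP W₂ hinv
  let ψ := homComp ρ φ
  let o : H.U ⟶ D.W := W₂.ι ≫ fU ≫ W₁.ι
  haveI : IsOpenImmersion o :=
    show IsOpenImmersion (W₂.ι ≫ fU ≫ W₁.ι) from inferInstance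
  have hoa : o ≫ D.a = ψ.fU := by
    show (W₂.ι ≫ fU ≫ W₁.ι) ≫ D.a = W₂.ι ≫ φ.fU
    rw [hφU]; simp only [Category.assoc]
  haveI : Etale ψ.fU := by rw [← hoa]; infer_instance
  let u' : H.U := (⟨w₁, hw₁₂⟩ : W₂.toScheme)
  have hou : o u' = w := hw₁
  have hresu : Function.Surjective (ψ.fU.residueFieldMap u') := by
    rw [← hou] at hres
    rw [← hoa, Scheme.residueFieldMap_comp]
    exact ((ConcreteCategory.bijective_of_isIso (o.residueFieldMap u')).2).comp hres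
  let ιP : H.R ⟶ rR G ψ.fU := rMk G ψ.fU ψ.fR H.t H.s ψ.comm_t ψ.comm_s
  have hιF : ιP ≫ rF G ψ.fU = ψ.fR := rMk_F _ _ _ _ _
  have hιS : ιP ≫ rS G ψ.fU = H.s := rMk_S _ _ _ _ _
  have hιT : ιP ≫ rT G ψ.fU = H.t := rMk_T _ _ _ _ _
  haveI : IsOpenImmersion ιP := by
    refine isOpenImmersion_of_rP ψ.fU ιP ?_
    have e : (ιP ≫ rP ψ.fU) ≫ bcm G.s o hoa = ρ.fR ≫ jQ ≫ D.Q.ι := by
      apply pullback.hom_ext
      · rw [Category.assoc, bcm_fst, Category.assoc, rP_fst, hιF]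
        show ρ.fR ≫ φ.fR = _
        rw [← hjσ, qσ]; simp only [Category.assoc]
      · rw [Category.assoc, bcm_snd, ← Category.assoc, Category.assoc ιP, rP_snd, hιS]
        show H.s ≫ W₂.ι ≫ fU ≫ W₁.ι = _
        rw [Category.assoc, Category.assoc, ← qπ, hjπ]
        exact (Category.assoc _ _ _).symm.trans
          ((congrArg (· ≫ fU ≫ W₁.ι) ρ.comm_s.symm).trans (Category.assoc _ _ _))
    haveI : IsOpenImmersion (bcm G.s o hoa) :=
      MorphismProperty.of_isPullback (isPullback_bcm G.s o hoa).flip inferInstance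
    haveI : IsOpenImmersion ((ιP ≫ rP ψ.fU) ≫ bcm G.s o hoa) := by
      rw [e]
      haveI : IsOpenImmersion ρ.fR := inferInstanceAs (IsOpenImmersion (GP.s ⁻¹ᵁ W₂).ι)
      infer_instance
    exact IsOpenImmersion.of_comp _ (bcm G.s o hoa)
  haveI hHs : IsFinite H.s := IsZariskiLocalAtTarget.restrict hs1 W₂
  have hf₁ : IsFinite (ιP ≫ rS G ψ.fU) := by rw [hιS]; exact hHs
  have hf₂ : IsFinite (ιP ≫ rT G ψ.fU) := by rw [hιT]; exact GrpQuot.isFinite_t H
  refine ⟨restrict G ψ.fU, restrictHom G ψ.fU, u', hW₂, ‹_›, ?_,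
    isIso_residueFieldMap_of_surjective _ _ hresu, isPullback_restrict G ψ.fU, H.R, ιP, ‹_›, ⟨H.e, ?_⟩,
    ⟨H.i, ?_⟩, ⟨pullback.lift (pullback.fst _ _) (pullback.snd _ _) ?_ ≫ H.c, ?_⟩, hf₁, hf₂,
    fun r' hrs hrt hrM => ?_⟩
  · show ψ.fU u' = u
    rw [← hoa, Scheme.Hom.comp_apply, hou, hwu]
  · show H.e ≫ ιP = rE G ψ.fU
    refine rR_ext ?_ ?_ ?_
    · rw [Category.assoc, hιF, rE, rMk_F]; exact GrpQuot.e_fR ψ
    · rw [Category.assoc, hιT, rE, rMk_T]; exact H.e_t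
    · rw [Category.assoc, hιS, rE, rMk_S]; exact H.e_s
  · show H.i ≫ ιP = ιP ≫ rI G ψ.fU
    refine rR_ext ?_ ?_ ?_
    · rw [Category.assoc, hιF, Category.assoc, rI, rMk_F, ← Category.assoc, hιF]; exact GrpQuot.i_fR ψ
    · rw [Category.assoc, hιT, Category.assoc, rI, rMk_T, hιS]; exact H.i_t
    · rw [Category.assoc, hιS, Category.assoc, rI, rMk_S, hιT]; exact H.i_s
  · exact ((congrArg (_ ≫ ·) hιS).symm.trans pullback.condition).trans (congrArg (_ ≫ ·) hιT)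
  · have hm : pullback.map (ιP ≫ rS G ψ.fU) (ιP ≫ rT G ψ.fU) (rS G ψ.fU) (rT G ψ.fU) ιP ιP (𝟙 _)
        (Category.comp_id _) (Category.comp_id _) = pullback.lift (pullback.fst _ _ ≫ ιP)
        (pullback.snd _ _ ≫ ιP) (by rw [Category.assoc, Category.assoc, pullback.condition]) := rfl
    show _ = pullback.map (ιP ≫ rS G ψ.fU) (ιP ≫ rT G ψ.fU) (rS G ψ.fU) (rT G ψ.fU) ιP ιP (𝟙 _) _ _ ≫ rC G ψ.fU
    rw [hm]
    refine rR_ext ?_ ?_ ?_
    · refine ((Category.assoc _ _ _).trans (congrArg (_ ≫ ·) hιF)).trans ((ψ.comm_c _ _ _).trans ?_)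
      refine Eq.trans ?_ (rC_F _ _ _).symm
      exact cmp_congr ((congrArg (_ ≫ ·) hιF.symm).trans (Category.assoc _ _ _).symm)
        ((congrArg (_ ≫ ·) hιF.symm).trans (Category.assoc _ _ _).symm) _
    · refine ((Category.assoc _ _ _).trans (congrArg (_ ≫ ·) hιT)).trans ((H.comp_t _ _ _).trans ?_)
      exact Eq.trans ((congrArg (_ ≫ ·) hιT.symm).trans (Category.assoc _ _ _).symm) (rC_T _ _ _).symm
    · refine ((Category.assoc _ _ _).trans (congrArg (_ ≫ ·) hιS)).trans ((H.comp_s _ _ _).trans ?_)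
      exact Eq.trans ((congrArg (_ ≫ ·) hιS.symm).trans (Category.assoc _ _ _).symm) (rC_S _ _ _).symm
  · change rR G ψ.fU at r'
    change rS G ψ.fU r' = u' at hrs
    change rT G ψ.fU r' = u' at hrt
    change rF G ψ.fU r' ∈ M at hrM
    let kr : Spec (CommRingCat.of ((rR G ψ.fU).residueField r')) ⟶ rR G ψ.fU :=
      (rR G ψ.fU).fromSpecResidueField r'
    let τ : Spec (CommRingCat.of ((rR G ψ.fU).residueField r')) := IsLocalRing.closedPoint _
    have hkr : kr τ = r' := Scheme.fromSpecResidueField_apply _ _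
    let q := kr ≫ rF G ψ.fU
    let v := (kr ≫ rS G ψ.fU) ≫ o
    have hqv : q ≫ G.s = v ≫ D.a := by
      show (kr ≫ rF G ψ.fU) ≫ G.s = ((kr ≫ rS G ψ.fU) ≫ o) ≫ D.a
      rw [Category.assoc, rF_s, Category.assoc, hoa, Category.assoc]
    have hmem : Mem D q v hqv := by
      intro x
      rw [Subsingleton.elim x τ, hfib q v hqv τ (by
        show ((kr ≫ rS G ψ.fU) ≫ o) τ = w
        rw [Scheme.Hom.comp_apply (kr ≫ rS G ψ.fU) o, Scheme.Hom.comp_apply kr, hkr, hrs, hou])]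
      show (kr ≫ rF G ψ.fU) τ ∈ M
      rw [Scheme.Hom.comp_apply, hkr]; exact hrM
    let k := toQ D q v hqv hmem
    haveI := hjQ
    let k₁ := IsOpenImmersion.lift jQ k (by
      rintro _ ⟨x, rfl⟩
      obtain ⟨r₁, hr₁⟩ := hjfib (k x) (by
        rw [← Scheme.Hom.comp_apply, toQ_π, Subsingleton.elim x τ]
        show ((kr ≫ rS G ψ.fU) ≫ o) τ = w
        rw [Scheme.Hom.comp_apply (kr ≫ rS G ψ.fU) o, Scheme.Hom.comp_apply kr, hkr, hrs, hou])
      exact ⟨r₁, hr₁⟩)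
    have hk₁ : k₁ ≫ jQ = k := IsOpenImmersion.lift_fac _ _ _
    have hk₁s : k₁ ≫ GP.s = (kr ≫ rS G ψ.fU) ≫ W₂.ι := by
      rw [← cancel_mono (fU ≫ W₁.ι), Category.assoc, ← hjπ, reassoc_of% hk₁, toQ_π]
      exact (Category.assoc _ _ _).symm
    let k₂ : Spec (CommRingCat.of ((rR G ψ.fU).residueField r')) ⟶ H.R := GrpQuot.liftR GP W₂ k₁ (fun x => by
      rw [← Scheme.Hom.comp_apply, hk₁s]
      exact ((kr ≫ rS G ψ.fU) x).2)
    have hk₂ : k₂ ≫ ρ.fR = k₁ := GrpQuot.liftR_ι _ _ _ _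
    have hk₂s : k₂ ≫ H.s = kr ≫ rS G ψ.fU := by
      refine (cancel_mono W₂.ι).1 ?_
      exact ((Category.assoc _ _ _).trans (congrArg (k₂ ≫ ·) ρ.comm_s.symm)).trans
        (((Category.assoc _ _ _).symm.trans (congrArg (· ≫ GP.s) hk₂)).trans hk₁s)
    have hk₂F : k₂ ≫ ψ.fR = q := by
      show k₂ ≫ ρ.fR ≫ φ.fR = q
      rw [reassoc_of% hk₂, ← hjσ, reassoc_of% hk₁, toQ_σ]
    have hk₂t : k₂ ≫ H.t = kr ≫ rT G ψ.fU := by
      refine fieldPoint_eq ψ.fU u' hresu _ _ τ ?_ (by rw [Scheme.Hom.comp_apply, hkr, hrt]) ?_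
      · refine W₂.ι.isOpenEmbedding.injective ?_
        have e1 : (k₂ ≫ H.t) ≫ W₂.ι = k₁ ≫ GP.t :=
          ((Category.assoc _ _ _).trans (congrArg (k₂ ≫ ·) ρ.comm_t.symm)).trans
            ((Category.assoc _ _ _).symm.trans (congrArg (· ≫ GP.t) hk₂))
        refine ((Scheme.Hom.comp_apply _ _ _).symm.trans (congrArg (fun m => m τ) e1)).trans ?_
        show (k₁ ≫ GP.t) τ = w₁
        rw [Scheme.Hom.comp_apply]
        refine horb _ ?_
        rw [← Scheme.Hom.comp_apply, hk₁s, Scheme.Hom.comp_apply, Scheme.Hom.comp_apply, hkr, hrs]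
        rfl
      · exact (Category.assoc _ _ _).trans ((congrArg (k₂ ≫ ·) ψ.comm_t.symm).trans
          ((Category.assoc _ _ _).symm.trans ((congrArg (· ≫ G.t) hk₂F).trans
            ((Category.assoc _ _ _).trans ((congrArg (kr ≫ ·) (rF_t G ψ.fU)).trans (Category.assoc _ _ _).symm)))))
    have hk₂r : k₂ ≫ ιP = kr := rR_ext ((Category.assoc _ _ _).trans ((congrArg (k₂ ≫ ·) hιF).trans hk₂F))
      ((Category.assoc _ _ _).trans ((congrArg (k₂ ≫ ·) hιT).trans hk₂t))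
      ((Category.assoc _ _ _).trans ((congrArg (k₂ ≫ ·) hιS).trans hk₂s))
    exact ⟨k₂ τ, (Scheme.Hom.comp_apply k₂ ιP τ).symm.trans ((congrArg (fun m => m τ) hk₂r).trans hkr)⟩

end Groth.Agent.GrpdEt19
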