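import Mathlib
import Groth.Agent.Lib.GrpdB.Calc
import Groth.Agent.Lib.HilbBC25.Basic

/-!
# Finite open pieces of a base change, and translation by arrows
-/

set_option autoImplicit false
set_option linter.style.haveILetI false
set_option backward.isDefEq.respectTransparency.types false

universe u

open CategoryTheory CategoryTheory.Limits AlgebraicGeometry TopologicalSpace

noncomputable section

namespace Groth.Agent.GrpdEt19

section bcm

variable {X U T T' T'' : Scheme.{u}} (f : X ⟶ U)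

/-- The map of base changes along a morphism of test schemes. -/
def bcm {x : T ⟶ U} {x' : T' ⟶ U} (h : T' ⟶ T) (hx : h ≫ x = x') : pullback f x' ⟶ pullback f x :=
  pullback.lift (pullback.fst f x') (pullback.snd f x' ≫ h)
    (by rw [pullback.condition, Category.assoc, hx])

@[reassoc (attr := simp)]
theorem bcm_fst {x : T ⟶ U} {x' : T' ⟶ U} (h : T' ⟶ T) (hx : h ≫ x = x') :
    bcm f h hx ≫ pullback.fst f x = pullback.fst f x' := pullback.lift_fst _ _ _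

@[reassoc (attr := simp)]
theorem bcm_snd {x : T ⟶ U} {x' : T' ⟶ U} (h : T' ⟶ T) (hx : h ≫ x = x') :
    bcm f h hx ≫ pullback.snd f x = pullback.snd f x' ≫ h := pullback.lift_snd _ _ _

theorem isPullback_bcm {x : T ⟶ U} {x' : T' ⟶ U} (h : T' ⟶ T) (hx : h ≫ x = x') :
    IsPullback (bcm f h hx) (pullback.snd f x') (pullback.snd f x) h := by
  refine IsPullback.of_right (h₁₂ := pullback.fst f x) (h₂₂ := x) (v₁₃ := f) ?_
    (bcm_snd f h hx) (IsPullback.of_hasPullback f x)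
  rw [bcm_fst, hx]
  exact IsPullback.of_hasPullback f x'

theorem bcm_comp {x : T ⟶ U} {x' : T' ⟶ U} {x'' : T'' ⟶ U} (h : T' ⟶ T) (hx : h ≫ x = x')
    (h' : T'' ⟶ T') (hx' : h' ≫ x' = x'') :
    bcm f h' hx' ≫ bcm f h hx = bcm f (h' ≫ h) (by rw [Category.assoc, hx, hx']) := by
  apply pullback.hom_ext <;> simp

theorem bcm_congr {x : T ⟶ U} {x' : T' ⟶ U} {h₁ h₂ : T' ⟶ T} (e : h₁ = h₂) (hx : h₁ ≫ x = x') :
    bcm f h₁ hx = bcm f h₂ (e ▸ hx) := by subst e; rfl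

theorem bcm_id (x : T ⟶ U) : bcm f (𝟙 T) (Category.id_comp x) = 𝟙 _ := by
  apply pullback.hom_ext <;> simp

theorem lift_bcm {x : T ⟶ U} {x' : T' ⟶ U} (h : T' ⟶ T) (hx : h ≫ x = x') (q : T'' ⟶ X) (w : T'' ⟶ T')
    (e : q ≫ f = w ≫ x') :
    pullback.lift q w e ≫ bcm f h hx =
      pullback.lift q (w ≫ h) (by rw [e, Category.assoc, hx]) := by
  apply pullback.hom_ext
  · rw [Category.assoc, bcm_fst, pullback.lift_fst, pullback.lift_fst]
  · rw [Category.assoc, bcm_snd, pullback.lift_snd, ← Category.assoc, pullback.lift_snd]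

end bcm

section opens

variable {A B S S' : Scheme.{u}}

/-- Finite locally free opens pull back. -/
theorem deg_preimage {m : A ⟶ B} {p' : A ⟶ S'} {p : B ⟶ S} {g : S' ⟶ S} (sq : IsPullback m p' p g) {d : ℕ}
    (O : B.Opens) (hO : Mor2.IsFinLocFreeOfDeg d (O.ι ≫ p)) :
    Mor2.IsFinLocFreeOfDeg d ((m ⁻¹ᵁ O).ι ≫ p') :=
  HilbBC25.isFinLocFreeOfDeg_of_isPullback ((isPullback_morphismRestrict m O).paste_vert sq) hO

/-- An open which is finite over the base is a closed subscheme of a separated scheme. -/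
theorem isClosedImmersion_ι {p : B ⟶ S} [IsSeparated p] (O : B.Opens) [IsFinite (O.ι ≫ p)] :
    IsClosedImmersion O.ι := by
  haveI : IsFinite O.ι := IsFinite.of_comp _ p
  exact (IsClosedImmersion.iff_isFinite_and_mono _).2 ⟨‹_›, inferInstance⟩

theorem isClosedImmersion_ι_of_deg {p : B ⟶ S} [IsSeparated p] (O : B.Opens) {d : ℕ}
    (hO : Mor2.IsFinLocFreeOfDeg d (O.ι ≫ p)) : IsClosedImmersion O.ι :=
  haveI := hO.1.1
  isClosedImmersion_ι (p := p) O

/-- The points of the base whose fibre in a finite piece lies in an open. -/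
def fibreLocus (p : B ⟶ S) (O : B.Opens) [IsFinite (O.ι ≫ p)] (C : B.Opens) : S.Opens :=
  ⟨((O.ι ≫ p) '' ((O.ι ⁻¹' (C : Set B))ᶜ))ᶜ,
    ((O.ι ≫ p).isClosedMap _ (C.2.preimage O.ι.continuous).isClosed_compl).isOpen_compl⟩

theorem mem_fibreLocus {p : B ⟶ S} {O : B.Opens} [IsFinite (O.ι ≫ p)] {C : B.Opens} (τ : S) :
    τ ∈ fibreLocus p O C ↔ ∀ z : B, z ∈ O → p z = τ → z ∈ C := by
  show τ ∉ (O.ι ≫ p) '' _ ↔ _
  constructor
  · intro h z hz hzτ
    by_contra hC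
    exact h ⟨⟨z, hz⟩, hC, hzτ⟩
  · rintro h ⟨⟨z, hz⟩, hC, hzτ⟩
    exact hC (h z hz hzτ)

/-- The ideal of a closed open subscheme pulls back to the ideal of its preimage. -/
theorem comap_ker_ι (m : A ⟶ B) (O : B.Opens) [IsClosedImmersion O.ι] :
    O.ι.ker.comap m = (m ⁻¹ᵁ O).ι.ker := by
  rw [← Scheme.IdealSheafData.ker_fst_of_isClosedImmersion O.ι m,
    ← (isPullback_morphismRestrict m O).flip.isoPullback_inv_fst, Scheme.Hom.ker_comp_of_isIso]

theorem support_ker_ι (O : B.Opens) [IsClosedImmersion O.ι] : (O.ι.ker.support : Set B) = O := by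
  rw [Scheme.Hom.support_ker, O.range_ι]
  exact IsClosed.closure_eq (O.range_ι ▸ O.ι.isClosedEmbedding.isClosed_range)

theorem eq_of_ker_ι_eq {O O' : B.Opens} [IsClosedImmersion O.ι] [IsClosedImmersion O'.ι]
    (h : O.ι.ker = O'.ι.ker) : O = O' :=
  Opens.ext (by rw [← support_ker_ι O, ← support_ker_ι O', h])

theorem ker_ι_subschemeι (I : B.IdealSheafData) [IsOpenImmersion I.subschemeι] :
    I.subschemeι.opensRange.ι.ker = I := by
  rw [← I.subschemeι.isoOpensRange_inv_comp, Scheme.Hom.ker_comp_of_isIso, Scheme.IdealSheafData.ker_subschemeι]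

end opens

section tr

open GrpdB

variable {S : Scheme.{u}} {G : Grpd.GroupoidScheme S} {T T' : Scheme.{u}}

/-- Right translation by an arrow. -/
def tr (ρ : T ⟶ G.R) {x y : T ⟶ G.U} (hs : ρ ≫ G.s = x) (ht : ρ ≫ G.t = y) :
    pullback G.s y ⟶ pullback G.s x :=
  pullback.lift (cmp G (pullback.fst G.s y) (pullback.snd G.s y ≫ ρ)
      (by rw [pullback.condition, Category.assoc, ht]))
    (pullback.snd G.s y) (by rw [cmp_s, Category.assoc, hs])

theorem tr_fst (ρ : T ⟶ G.R) {x y : T ⟶ G.U} (hs : ρ ≫ G.s = x) (ht : ρ ≫ G.t = y) :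
    tr ρ hs ht ≫ pullback.fst G.s x = cmp G (pullback.fst G.s y) (pullback.snd G.s y ≫ ρ)
      (by rw [pullback.condition, Category.assoc, ht]) := pullback.lift_fst _ _ _

@[reassoc (attr := simp)]
theorem tr_snd (ρ : T ⟶ G.R) {x y : T ⟶ G.U} (hs : ρ ≫ G.s = x) (ht : ρ ≫ G.t = y) :
    tr ρ hs ht ≫ pullback.snd G.s x = pullback.snd G.s y := pullback.lift_snd _ _ _

theorem lift_tr (ρ : T ⟶ G.R) {x y : T ⟶ G.U} (hs : ρ ≫ G.s = x) (ht : ρ ≫ G.t = y)
    (q : T' ⟶ G.R) (w : T' ⟶ T) (e : q ≫ G.s = w ≫ y) :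
    pullback.lift q w e ≫ tr ρ hs ht =
      pullback.lift (cmp G q (w ≫ ρ) (by rw [e, Category.assoc, ht])) w (by rw [cmp_s, Category.assoc, hs]) := by
  apply pullback.hom_ext
  · rw [pullback.lift_fst, Category.assoc, tr_fst, comp_cmp]
    exact cmp_congr (pullback.lift_fst _ _ _) (by rw [← Category.assoc, pullback.lift_snd]) _
  · rw [Category.assoc, tr_snd, pullback.lift_snd, pullback.lift_snd]

theorem tr_congr {ρ ρ' : T ⟶ G.R} (e : ρ = ρ') {x y : T ⟶ G.U} (hs : ρ ≫ G.s = x) (ht : ρ ≫ G.t = y) :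
    tr ρ hs ht = tr ρ' (e ▸ hs) (e ▸ ht) := by subst e; rfl

theorem tr_tr (ρ₁ ρ₂ : T ⟶ G.R) {x y z : T ⟶ G.U} (hs₁ : ρ₁ ≫ G.s = x) (ht₁ : ρ₁ ≫ G.t = y)
    (hs₂ : ρ₂ ≫ G.s = y) (ht₂ : ρ₂ ≫ G.t = z) :
    tr ρ₂ hs₂ ht₂ ≫ tr ρ₁ hs₁ ht₁ = tr (cmp G ρ₂ ρ₁ (hs₂.trans ht₁.symm))
      (by rw [cmp_s, hs₁]) (by rw [cmp_t, ht₂]) := by
  apply pullback.hom_ext
  · rw [Category.assoc, tr_fst, tr_fst, comp_cmp]
    have h₁ : pullback.fst G.s z ≫ G.s = (pullback.snd G.s z ≫ ρ₂) ≫ G.t := by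
      rw [pullback.condition, Category.assoc, ht₂]
    have h₂ : (pullback.snd G.s z ≫ ρ₂) ≫ G.s = (pullback.snd G.s z ≫ ρ₁) ≫ G.t := by
      rw [Category.assoc, hs₂, Category.assoc, ht₁]
    exact ((cmp_congr (tr_fst ρ₂ hs₂ ht₂) (by rw [← Category.assoc, tr_snd]) _).trans
      (cmp_assoc _ _ _ h₁ h₂)).trans (cmp_congr rfl (comp_cmp _ _ _ _).symm _)
  · simp

theorem tr_e (x : T ⟶ G.U) :
    tr (x ≫ G.e) (x := x) (y := x) (by rw [Category.assoc, G.e_s, Category.comp_id])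
      (by rw [Category.assoc, G.e_t, Category.comp_id]) = 𝟙 _ := by
  apply pullback.hom_ext
  · rw [tr_fst, Category.id_comp]
    exact (cmp_congr rfl (Category.assoc _ _ _).symm _).trans (cmp_id' _ _ _)
  · simp

theorem bcm_tr (h : T' ⟶ T) (ρ : T ⟶ G.R) {x y : T ⟶ G.U} (hs : ρ ≫ G.s = x) (ht : ρ ≫ G.t = y)
    {x' y' : T' ⟶ G.U} (hx : h ≫ x = x') (hy : h ≫ y = y') :
    bcm G.s h hy ≫ tr ρ hs ht = tr (h ≫ ρ) (x := x') (y := y') (by rw [Category.assoc, hs, hx])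
      (by rw [Category.assoc, ht, hy]) ≫ bcm G.s h hx := by
  apply pullback.hom_ext
  · rw [Category.assoc, tr_fst, Category.assoc (tr _ _ _), bcm_fst, tr_fst, comp_cmp]
    exact cmp_congr (bcm_fst _ _ _) (by rw [← Category.assoc, bcm_snd, Category.assoc]) _
  · simp

theorem isIso_tr (ρ : T ⟶ G.R) {x y : T ⟶ G.U} (hs : ρ ≫ G.s = x) (ht : ρ ≫ G.t = y) : IsIso (tr ρ hs ht) := by
  refine ⟨tr (ρ ≫ G.i) (x := y) (y := x) (by rw [Category.assoc, G.i_s, ht]) (by rw [Category.assoc, G.i_t, hs]),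
    ?_, ?_⟩
  · rw [tr_tr]
    refine (tr_congr (ρ' := y ≫ G.e) ?_ _ _).trans (tr_e y)
    exact (G.comp_i ρ).trans (by rw [← ht, Category.assoc])
  · rw [tr_tr]
    refine (tr_congr (ρ' := x ≫ G.e) ?_ _ _).trans (tr_e x)
    exact (G.i_comp ρ).trans (by rw [← hs, Category.assoc])

theorem isPullback_tr (ρ : T ⟶ G.R) {x y : T ⟶ G.U} (hs : ρ ≫ G.s = x) (ht : ρ ≫ G.t = y) :
    IsPullback (tr ρ hs ht) (pullback.snd G.s y) (pullback.snd G.s x) (𝟙 T) :=
  haveI := isIso_tr ρ hs ht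
  IsPullback.of_horiz_isIso ⟨by simp⟩

end tr

end Groth.Agent.GrpdEt19
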