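import Groth.Agent.Lib.GrpdEt19.Deg
import Groth.Agent.Lib.GrpdEt19.Pieces
import Groth.Agent.Lib.HilbRep25.Data
import Groth.Agent.Lib.AlgSpDescent.SchemeSource
import Mathlib

/-!
# The étale space of finite open pieces near a given one
-/

set_option autoImplicit false
set_option linter.style.haveILetI false
set_option backward.isDefEq.respectTransparency.types false
set_option maxHeartbeats 1000000

universe u

open CategoryTheory CategoryTheory.Limits AlgebraicGeometry TopologicalSpace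

noncomputable section

namespace Groth.Agent.GrpdEt19

variable {X U : Scheme.{u}} (f : X ⟶ U)

theorem XTmap_eq {T T' : Over U} (g : T' ⟶ T) : PicF.XTmap f g = bcm f g.left (Over.w g) := by
  apply pullback.hom_ext
  · rw [bcm_fst, HilbBC25.XTmap_fst]
  · rw [bcm_snd]; exact HilbBC25.XTmap_snd f g

/-- Finite locally free open pieces of degree `d` near a given one have an étale parameter space. -/
theorem exists_universal_piece [IsSeparated f] {d : ℕ} (hrep : HilbD.Representable f d) {V : Scheme.{u}}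
    (a' : V ⟶ U) [Etale a'] (O : (pullback f a').Opens)
    (hO : Mor2.IsFinLocFreeOfDeg d (O.ι ≫ pullback.snd f a')) :
    ∃ (W : Scheme.{u}) (a : W ⟶ U) (Q : (pullback f a).Opens) (c : V ⟶ W) (hc : c ≫ a = a'),
      Etale a ∧ Surjective c ∧ Mor2.IsFinLocFreeOfDeg d (Q.ι ≫ pullback.snd f a) ∧
      bcm f c hc ⁻¹ᵁ Q = O ∧
      (∀ (T : Scheme.{u}) (g g' : T ⟶ W) (e : g' ≫ a = g ≫ a),
        bcm f g rfl ⁻¹ᵁ Q = bcm f g' e ⁻¹ᵁ Q → g = g') ∧
      ∀ (T : Scheme.{u}) (x : T ⟶ U) (O' : (pullback f x).Opens),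
        Mor2.IsFinLocFreeOfDeg d (O'.ι ≫ pullback.snd f x) →
        ∃ (T₁ : T.Opens) (g : T₁.toScheme ⟶ W) (hg : g ≫ a = T₁.ι ≫ x),
          bcm f g hg ⁻¹ᵁ Q = bcm f T₁.ι rfl ⁻¹ᵁ O' ∧
          ∀ (Y : Scheme.{u}) (k : Y ⟶ T) (l : Y ⟶ W) (e : l ≫ a = k ≫ x),
            bcm f l e ⁻¹ᵁ Q = bcm f k rfl ⁻¹ᵁ O' → ∀ y : Y, k y ∈ T₁ := by
  obtain ⟨H, Z, hZ⟩ := hrep
  have hsep : ∀ {T : Scheme.{u}} (x : T ⟶ U), IsSeparated (pullback.snd f x) := fun x => inferInstance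
  have hex : ∀ {T : Scheme.{u}} (x : T ⟶ U) (A : (pullback f x).Opens),
      Mor2.IsFinLocFreeOfDeg d (A.ι ≫ pullback.snd f x) →
      ∃ (g : T ⟶ H.left) (hg : g ≫ H.hom = x), Z.1.comap (bcm f g hg) = A.ι.ker := by
    intro T x A hA
    haveI := isClosedImmersion_ι_of_deg (p := pullback.snd f x) A hA
    obtain ⟨g, hg, -⟩ := hZ (Over.mk x) ⟨A.ι.ker, HilbRep25.isFinLocFreeOfDeg_ker A.ι _ hA⟩
    refine ⟨g.left, Over.w g, Eq.trans ?_ hg⟩
    rw [HilbBC25.pull_eq_comap, XTmap_eq]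
  have huni : ∀ {T : Scheme.{u}} {x : T ⟶ U} (g g' : T ⟶ H.left) (e : g ≫ H.hom = x) (e' : g' ≫ H.hom = x),
      Z.1.comap (bcm f g e) = Z.1.comap (bcm f g' e') → g = g' := by
    intro T x g g' e e' h
    let T' : Over U := Over.mk x
    let k : T' ⟶ H := Over.homMk g e
    let k' : T' ⟶ H := Over.homMk g' e'
    have e1 : HilbD.pull f k Z.1 = Z.1.comap (bcm f g e) := by rw [HilbBC25.pull_eq_comap, XTmap_eq]; rfl
    have e2 : HilbD.pull f k' Z.1 = Z.1.comap (bcm f g' e') := by rw [HilbBC25.pull_eq_comap, XTmap_eq]; rfl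
    obtain ⟨g₀, -, hu⟩ := hZ T' ⟨HilbD.pull f k Z.1, HilbBC25.isFinLocFreeOfDeg_pull f d k Z.1 Z.2⟩
    exact congrArg CommaMorphism.left ((hu k rfl).trans (hu k' (e2.trans (h.symm.trans e1.symm))).symm)
  have hdeg : ∀ {T : Scheme.{u}} (g : T ⟶ H.left) (x : T ⟶ U) (hg : g ≫ H.hom = x),
      Mor2.IsFinLocFreeOfDeg d ((Z.1.comap (bcm f g hg)).subschemeι ≫ pullback.snd f x) := by
    intro T g x hg
    let k : Over.mk x ⟶ H := Over.homMk g hg
    have e1 : HilbD.pull f k Z.1 = Z.1.comap (bcm f g hg) := by rw [HilbBC25.pull_eq_comap, XTmap_eq]; rfl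
    exact e1 ▸ HilbBC25.isFinLocFreeOfDeg_pull f d k Z.1 Z.2
  obtain ⟨c, hc, hcZ⟩ := hex a' O hO
  -- the locus of equal pieces in `V ×_U H`
  let pr₁ := pullback.fst a' H.hom
  let pr₂ := pullback.snd a' H.hom
  let xT := pr₁ ≫ a'
  have hpr₂ : pr₂ ≫ H.hom = xT := pullback.condition.symm
  let ZT := Z.1.comap (bcm f pr₂ hpr₂)
  haveI : IsFinite (ZT.subschemeι ≫ pullback.snd f xT) := (hdeg pr₂ xT hpr₂).1.1
  let OT := bcm f pr₁ (rfl : pr₁ ≫ a' = xT) ⁻¹ᵁ O
  let E : (pullback a' H.hom).Opens :=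
    ⟨((ZT.subschemeι ≫ pullback.snd f xT) '' ((ZT.subschemeι ⁻¹' (OT : Set _))ᶜ))ᶜ,
      ((ZT.subschemeι ≫ pullback.snd f xT).isClosedMap _
        (OT.2.preimage ZT.subschemeι.continuous).isClosed_compl).isOpen_compl⟩
  have hmemE : ∀ τ, (∀ z, z ∈ ZT.support → pullback.snd f xT z = τ → z ∈ OT) → τ ∈ E := by
    rintro τ h ⟨w, hw, rfl⟩
    refine hw (h _ ?_ rfl)
    rw [← SetLike.mem_coe, ← ZT.range_subschemeι]
    exact ⟨w, rfl⟩
  have hE : ∀ z, z ∈ ZT.support → pullback.snd f xT z ∈ E → z ∈ OT := by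
    intro z hz hzE
    rw [← SetLike.mem_coe, ← ZT.range_subschemeι] at hz
    obtain ⟨w, rfl⟩ := hz
    by_contra hn
    exact hzE ⟨w, hn, rfl⟩
  let Γ : V ⟶ pullback a' H.hom := pullback.lift (𝟙 V) c (by rw [Category.id_comp, hc])
  have hΓx : Γ ≫ xT = a' := by rw [← Category.assoc, pullback.lift_fst, Category.id_comp]
  have hΓ : ∀ v, Γ v ∈ E := by
    intro v
    refine hmemE _ fun z hz hzv => ?_
    obtain ⟨z₀, hz₀, -⟩ := Scheme.exists_preimage_of_isPullback (isPullback_bcm f Γ hΓx) z v hzv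
    have h2 : z₀ ∈ ((Z.1.comap (bcm f c hc)).support : Set _) := by
      have h3 : bcm f c hc = bcm f Γ hΓx ≫ bcm f pr₂ hpr₂ :=
        (bcm_congr f (pullback.lift_snd _ _ _).symm hc).trans (bcm_comp f pr₂ hpr₂ Γ hΓx).symm
      rw [h3, Scheme.IdealSheafData.comap_comp, Scheme.IdealSheafData.support_comap]
      show bcm f Γ hΓx z₀ ∈ ZT.support
      rw [hz₀]; exact hz
    haveI := isClosedImmersion_ι_of_deg (p := pullback.snd f a') O hO
    rw [hcZ, support_ker_ι] at h2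
    show bcm f pr₁ rfl z ∈ O
    rw [← hz₀, ← Scheme.Hom.comp_apply, bcm_comp]
    rw [bcm_congr f (pullback.lift_fst _ _ _), bcm_id]
    exact h2
  let ΓE : V ⟶ E.toScheme := IsOpenImmersion.lift E.ι Γ (by
    rintro _ ⟨v, rfl⟩; rw [E.range_ι]; exact hΓ v)
  have hΓE : ΓE ≫ E.ι = Γ := IsOpenImmersion.lift_fac _ _ _
  have hkey : (E.ι ≫ pr₁) ≫ c = E.ι ≫ pr₂ := by
    have h1 : (E.ι ≫ pr₁) ≫ a' = E.ι ≫ xT := Category.assoc _ _ _
    have h2 : (E.ι ≫ pr₂) ≫ H.hom = E.ι ≫ xT := by rw [Category.assoc, hpr₂]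
    have h3 : ((E.ι ≫ pr₁) ≫ c) ≫ H.hom = E.ι ≫ xT := by rw [Category.assoc, hc, h1]
    let OE := bcm f (E.ι ≫ pr₁) h1 ⁻¹ᵁ O
    have hOE := deg_preimage (isPullback_bcm f (E.ι ≫ pr₁) h1) O hO
    haveI := isClosedImmersion_ι_of_deg (p := pullback.snd f (E.ι ≫ xT)) OE hOE
    haveI := isClosedImmersion_ι_of_deg (p := pullback.snd f a') O hO
    let IE := Z.1.comap (bcm f (E.ι ≫ pr₂) h2)
    have hsub : Set.range IE.subschemeι ⊆ Set.range OE.ι := by
      rw [IE.range_subschemeι, OE.range_ι]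
      intro z hz
      have hz' : bcm f E.ι rfl z ∈ ZT.support := by
        have h4 : bcm f (E.ι ≫ pr₂) h2 = bcm f E.ι rfl ≫ bcm f pr₂ hpr₂ := (bcm_comp f pr₂ hpr₂ E.ι rfl).symm
        rw [SetLike.mem_coe, ← SetLike.mem_coe, show IE = ZT.comap (bcm f E.ι rfl) by
          show Z.1.comap _ = _; rw [h4, Scheme.IdealSheafData.comap_comp],
          Scheme.IdealSheafData.support_comap] at hz
        exact hz
      have hz'' := hE _ hz' (by
        rw [← Scheme.Hom.comp_apply, bcm_snd, Scheme.Hom.comp_apply]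
        exact (pullback.snd f (E.ι ≫ xT) z).2)
      show bcm f (E.ι ≫ pr₁) h1 z ∈ O
      rw [← bcm_comp f pr₁ rfl E.ι rfl, Scheme.Hom.comp_apply]
      exact hz''
    let i := IsOpenImmersion.lift OE.ι IE.subschemeι hsub
    have hi : i ≫ OE.ι = IE.subschemeι := IsOpenImmersion.lift_fac _ _ _
    haveI : IsClosedImmersion (i ≫ OE.ι) := by rw [hi]; infer_instance
    haveI : IsClosedImmersion i := IsClosedImmersion.of_comp_isClosedImmersion i OE.ι
    haveI := isIso_of_deg i (OE.ι ≫ pullback.snd f (E.ι ≫ xT)) (d := d) (by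
      rw [← Category.assoc i OE.ι, hi]; exact hdeg _ _ h2) hOE
    have hker : IE = OE.ι.ker := by
      rw [← IE.ker_subschemeι, ← hi, Scheme.Hom.ker_comp_of_isIso]
    have h5 : Z.1.comap (bcm f ((E.ι ≫ pr₁) ≫ c) h3) = IE := by
      rw [hker, ← comap_ker_ι, ← hcZ, ← Scheme.IdealSheafData.comap_comp, bcm_comp]
    exact huni _ _ h3 h2 h5
  haveI : IsIso ΓE := ⟨⟨E.ι ≫ pr₁, by rw [← Category.assoc, hΓE, pullback.lift_fst], by
    rw [← cancel_mono E.ι, Category.assoc, hΓE, Category.id_comp]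
    apply pullback.hom_ext
    · rw [Category.assoc, pullback.lift_fst, Category.comp_id]
    · rw [Category.assoc, pullback.lift_snd, hkey]⟩⟩
  have hcet : Etale c := by
    have e : c = ΓE ≫ E.ι ≫ pr₂ := by rw [← Category.assoc, hΓE, pullback.lift_snd]
    rw [e]; infer_instance
  haveI := hcet
  let W₀ : H.left.Opens := ⟨Set.range c, c.isOpenMap.isOpen_range⟩
  let c₀ : V ⟶ W₀.toScheme := IsOpenImmersion.lift W₀.ι c (by rw [W₀.range_ι]; exact le_rfl)
  have hc₀ : c₀ ≫ W₀.ι = c := IsOpenImmersion.lift_fac _ _ _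
  haveI : Surjective c₀ := ⟨fun w => by
    obtain ⟨v, hv⟩ := w.2
    refine ⟨v, W₀.ι.isOpenEmbedding.injective ?_⟩
    rw [← Scheme.Hom.comp_apply, hc₀]
    exact hv⟩
  haveI : Etale c₀ := MorphismProperty.of_postcomp (W := @Etale) c₀ W₀.ι
    (show Etale W₀.ι from inferInstance) (by rw [hc₀]; exact hcet)
  let a : W₀.toScheme ⟶ U := W₀.ι ≫ H.hom
  have hca : c₀ ≫ a = a' := by rw [← Category.assoc, hc₀, hc]
  have haet : Etale a := AlgSpDescent.descendsEtaleSource_etale c₀ a inferInstance inferInstance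
    (by rw [hca]; infer_instance)
  let Z₀ := Z.1.comap (bcm f W₀.ι (rfl : W₀.ι ≫ H.hom = a))
  have hZ₀c : Z₀.comap (bcm f c₀ hca) = O.ι.ker := by
    rw [← Scheme.IdealSheafData.comap_comp, bcm_comp, bcm_congr f hc₀]
    exact hcZ
  haveI : IsOpenImmersion Z₀.subschemeι := by
    haveI := isClosedImmersion_ι_of_deg (p := pullback.snd f a') O hO
    have hq : (@Surjective ⊓ @Flat ⊓ @LocallyOfFinitePresentation : MorphismProperty Scheme.{u}) (bcm f c₀ hca) :=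
      ⟨⟨MorphismProperty.of_isPullback (isPullback_bcm f c₀ hca).flip ‹Surjective c₀›,
        MorphismProperty.of_isPullback (isPullback_bcm f c₀ hca).flip (inferInstanceAs (Flat c₀))⟩,
        MorphismProperty.of_isPullback (isPullback_bcm f c₀ hca).flip
          (inferInstanceAs (LocallyOfFinitePresentation c₀))⟩
    refine MorphismProperty.of_pullback_fst_of_descendsAlong (P := @IsOpenImmersion)
      (Q := @Surjective ⊓ @Flat ⊓ @LocallyOfFinitePresentation) hq ?_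
    have e1 : (Z₀.comapIso (bcm f c₀ hca)).hom ≫ pullback.fst (bcm f c₀ hca) Z₀.subschemeι =
        (Z₀.comap (bcm f c₀ hca)).subschemeι := Scheme.IdealSheafData.comapIso_hom_fst _ _
    haveI : IsOpenImmersion (Z₀.comap (bcm f c₀ hca)).subschemeι := by
      rw [hZ₀c, show O.ι.ker.subschemeι = inv O.ι.toImage ≫ O.ι by
        rw [IsIso.eq_inv_comp]; exact O.ι.toImage_imageι]
      infer_instance
    show IsOpenImmersion (pullback.fst (bcm f c₀ hca) Z₀.subschemeι)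
    rw [← Iso.inv_comp_eq _ |>.2 e1.symm]
    infer_instance
  let Q : (pullback f a).Opens := Z₀.subschemeι.opensRange
  have hQker : Q.ι.ker = Z₀ := ker_ι_subschemeι Z₀
  have hQdeg : Mor2.IsFinLocFreeOfDeg d (Q.ι ≫ pullback.snd f a) := by
    have sq : IsPullback Z₀.subschemeι.isoOpensRange.inv (Q.ι ≫ pullback.snd f a)
        (Z₀.subschemeι ≫ pullback.snd f a) (𝟙 _) :=
      IsPullback.of_horiz_isIso ⟨by rw [Category.comp_id, ← Category.assoc, Scheme.Hom.isoOpensRange_inv_comp]⟩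
    exact HilbBC25.isFinLocFreeOfDeg_of_isPullback sq (hdeg W₀.ι a rfl)
  haveI := isClosedImmersion_ι_of_deg (p := pullback.snd f a) Q hQdeg
  have hQpull : ∀ {T : Scheme.{u}} {x : T ⟶ U} (g : T ⟶ W₀.toScheme) (hg : g ≫ a = x),
      Z.1.comap (bcm f (g ≫ W₀.ι) ((Category.assoc _ _ _).trans hg)) = (bcm f g hg ⁻¹ᵁ Q).ι.ker := by
    intro T x g hg
    rw [← comap_ker_ι, hQker, ← Scheme.IdealSheafData.comap_comp, bcm_comp]
  refine ⟨W₀.toScheme, a, Q, c₀, hca, haet, inferInstance, hQdeg, ?_, ?_, ?_⟩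
  · haveI := isClosedImmersion_ι_of_deg (p := pullback.snd f a') O hO
    haveI := isClosedImmersion_ι_of_deg (p := pullback.snd f a') (bcm f c₀ hca ⁻¹ᵁ Q)
      (deg_preimage (isPullback_bcm f c₀ hca) Q hQdeg)
    exact eq_of_ker_ι_eq (by rw [← comap_ker_ι, hQker, hZ₀c])
  · intro T g g' e h
    exact (cancel_mono W₀.ι).1 (huni _ _ _ _ (((hQpull g rfl).trans
      (congrArg (fun A : (pullback f (g ≫ a)).Opens => A.ι.ker) h)).trans (hQpull g' e).symm))
  · intro T x O' hO'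
    obtain ⟨g₀, hg₀, hg₀Z⟩ := hex x O' hO'
    let T₁ := g₀ ⁻¹ᵁ W₀
    let g := g₀ ∣_ W₀
    have hgι : g ≫ W₀.ι = T₁.ι ≫ g₀ := morphismRestrict_ι _ _
    have hg : g ≫ a = T₁.ι ≫ x := by
      show g ≫ W₀.ι ≫ H.hom = _
      rw [reassoc_of% hgι, hg₀]
    haveI := isClosedImmersion_ι_of_deg (p := pullback.snd f x) O' hO'
    haveI := isClosedImmersion_ι_of_deg (p := pullback.snd f (T₁.ι ≫ x)) (bcm f g hg ⁻¹ᵁ Q)
      (deg_preimage (isPullback_bcm f g hg) Q hQdeg)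
    haveI := isClosedImmersion_ι_of_deg (p := pullback.snd f (T₁.ι ≫ x)) (bcm f T₁.ι rfl ⁻¹ᵁ O')
      (deg_preimage (isPullback_bcm f T₁.ι rfl) O' hO')
    refine ⟨T₁, g, hg, eq_of_ker_ι_eq ?_, fun Y k l e h y => ?_⟩
    · rw [← hQpull g hg, ← comap_ker_ι, ← hg₀Z, ← Scheme.IdealSheafData.comap_comp, bcm_comp,
        bcm_congr f hgι]
    · have h1 : (k ≫ g₀) ≫ H.hom = k ≫ x := by rw [Category.assoc, hg₀]
      have hk : Z.1.comap (bcm f (k ≫ g₀) h1) = (bcm f k rfl ⁻¹ᵁ O').ι.ker := by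
        rw [← comap_ker_ι, ← hg₀Z, ← Scheme.IdealSheafData.comap_comp, bcm_comp]
      have e2 := huni _ _ h1 _ (hk.trans (((congrArg (fun A : (pullback f (k ≫ x)).Opens => A.ι.ker) h).symm).trans
        (hQpull l e).symm))
      show g₀ (k y) ∈ W₀
      rw [← Scheme.Hom.comp_apply, e2, Scheme.Hom.comp_apply]
      exact (l y).2

end Groth.Agent.GrpdEt19
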