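import Groth.Agent.Lib.GrpdEt19.Pieces
import Groth.Agent.Lib.Weight4.NbhdParts
import Mathlib

/-!
# An elementary étale neighbourhood with a piece having prescribed fibre
-/

set_option autoImplicit false
set_option linter.style.haveILetI false
set_option backward.isDefEq.respectTransparency.types false

universe u

open CategoryTheory CategoryTheory.Limits AlgebraicGeometry TopologicalSpace IsLocalRing

noncomputable section

namespace Groth.Agent.GrpdEt19

theorem isFinite_iSup {P U : Scheme.{u}} (π : P ⟶ U) [IsSeparated π] : ∀ (n : ℕ) (V : Fin n → P.Opens),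
    (∀ i, IsFinite ((V i).ι ≫ π)) → IsFinite ((⨆ i, V i).ι ≫ π) := by
  intro n
  induction n with
  | zero =>
    intro V _
    haveI : IsEmpty ((⨆ i, V i : P.Opens) : Scheme.{u}) := ⟨fun z => by
      obtain ⟨i, -⟩ := Opens.mem_iSup.1 z.2
      exact i.elim0⟩
    infer_instance
  | succ n ih =>
    intro V hV
    haveI := hV (Fin.last n)
    haveI := ih (fun i => V i.castSucc) (fun i => hV _)
    have e : (⨆ i, V i) = V (Fin.last n) ⊔ ⨆ i : Fin n, V i.castSucc :=
      le_antisymm (iSup_le fun i => Fin.lastCases (le_sup_left) (fun j => le_sup_of_le_right (le_iSup (fun j : Fin n => V j.castSucc) j)) i)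
        (sup_le (le_iSup V _) (iSup_le fun j => le_iSup V j.castSucc))
    rw [e]
    haveI := isClosedImmersion_ι (p := π) (V (Fin.last n))
    exact Weight.isFinite_sup_of_isClosed π _ _ ((V (Fin.last n)).range_ι ▸
      (V (Fin.last n)).ι.isClosedEmbedding.isClosed_range)

/-- Finitely many quasi-finite points in a fibre form the fibre of a finite locally free piece over an
elementary étale neighbourhood. -/
theorem exists_piece_nbhd {R U : Scheme.{u}} (s : R ⟶ U) [IsSeparated s] [Flat s]
    [LocallyOfFinitePresentation s] (u : U) (M : Set R) (hM : M.Finite) (hMs : ∀ r ∈ M, s r = u)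
    (hMq : ∀ r ∈ M, s.QuasiFiniteAt r) :
    ∃ (V : Scheme.{u}) (a : V ⟶ U) (v : V), Etale a ∧ a v = u ∧ Function.Surjective (a.residueFieldMap v) ∧
      ∃ (O : (pullback s a).Opens) (d : ℕ), Mor2.IsFinLocFreeOfDeg d (O.ι ≫ pullback.snd s a) ∧
        ∀ z, pullback.snd s a z = v → (z ∈ O ↔ pullback.fst s a z ∈ M) := by
  haveI := hM.to_subtype
  let e := Finite.equivFin M
  obtain ⟨T, g, σ, V, hg, hσ, hV⟩ := Weight.exists_elementary_parts s u (Nat.card M)
    (fun i => (e.symm i).1) (fun i => hMs _ (e.symm i).2) (fun i => hMq _ (e.symm i).2)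
  let t := σ (closedPoint (U.residueField u))
  have hgt : g t = u := by
    show g (σ _) = u
    rw [← Scheme.Hom.comp_apply, hσ]
    exact U.fromSpecResidueField_apply u _
  have hres : Function.Surjective (g.residueFieldMap t) :=
    Weight.residueFieldMap_surjective_of_section g t u hgt σ hσ rfl
  choose hfin v hvV hvx hvu huniq _ using hV
  let O₁ := ⨆ i, V i
  haveI : IsFinite (O₁.ι ≫ pullback.snd s g) := isFinite_iSup _ _ V hfin
  let π := O₁.ι ≫ pullback.snd s g
  haveI : Flat π := inferInstanceAs (Flat (O₁.ι ≫ pullback.snd s g))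
  haveI : LocallyOfFinitePresentation π :=
    inferInstanceAs (LocallyOfFinitePresentation (O₁.ι ≫ pullback.snd s g))
  haveI : IsFinite π := inferInstanceAs (IsFinite (O₁.ι ≫ pullback.snd s g))
  let d := π.finrank t
  let T₀ : T.Opens := ⟨π.finrank ⁻¹' {d}, π.isLocallyConstant_finrank.isOpen_fiber d⟩
  have hb : T₀.ι ≫ g = T₀.ι ≫ g := rfl
  let O := bcm s T₀.ι hb ⁻¹ᵁ O₁
  have hsq := (isPullback_morphismRestrict (bcm s T₀.ι hb) O₁).paste_vert (isPullback_bcm s T₀.ι hb)
  refine ⟨T₀.toScheme, T₀.ι ≫ g, ⟨t, rfl⟩, inferInstance, hgt, ?_, O, d,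
    ⟨⟨MorphismProperty.of_isPullback hsq ‹IsFinite π›, MorphismProperty.of_isPullback hsq ‹Flat π›,
      MorphismProperty.of_isPullback hsq ‹LocallyOfFinitePresentation π›⟩, fun y => ?_⟩, fun z hz => ?_⟩
  · rw [Scheme.residueFieldMap_comp]
    exact ((ConcreteCategory.bijective_of_isIso (T₀.ι.residueFieldMap _)).2).comp hres
  · rw [Scheme.Hom.finrank_of_isPullback _ _ _ _ hsq]
    exact y.2
  · let w := bcm s T₀.ι hb z
    have hw1 : pullback.fst s g w = pullback.fst s (T₀.ι ≫ g) z := by rw [← Scheme.Hom.comp_apply, bcm_fst]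
    have hw2 : pullback.snd s g w = t := by rw [← Scheme.Hom.comp_apply, bcm_snd, Scheme.Hom.comp_apply, hz]; rfl
    show w ∈ O₁ ↔ _
    rw [← hw1]
    constructor
    · intro hw
      obtain ⟨i, hi⟩ := Opens.mem_iSup.1 hw
      rw [huniq i w hi hw2, hvx i]
      exact (e.symm i).2
    · intro hw
      obtain ⟨j, hj⟩ : ∃ j, e ⟨_, hw⟩ = j := ⟨_, rfl⟩
      have hfst : pullback.fst s g w = pullback.fst s g (v j) := by rw [hvx, ← hj, e.symm_apply_apply]
      refine Opens.mem_iSup.2 ⟨j, ?_⟩
      rw [(Weight.pullback_residue_trivial s g (v j) w (by rw [hvu]; exact hres) hfst (by rw [hw2, hvu])).1]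
      exact hvV _

end Groth.Agent.GrpdEt19
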