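import Groth.Agent.Lib.GrpdEt19.Universal
import Mathlib

/-!
# Translated pieces, and the arrows of a space of pieces
-/

set_option autoImplicit false
set_option linter.style.haveILetI false
set_option backward.isDefEq.respectTransparency.types false
set_option maxHeartbeats 1000000

universe u

open CategoryTheory CategoryTheory.Limits AlgebraicGeometry TopologicalSpace

noncomputable section

namespace Groth.Agent.GrpdEt19

open GrpdB

variable {S : Scheme.{u}} {G : Grpd.GroupoidScheme S}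

theorem lift_apply_congr {R U T W : Scheme.{u}} {s : R ⟶ U} {a : W ⟶ U} {q q' : T ⟶ R} {w w' : T ⟶ W}
    (eq : q = q') (ew : w = w') (h : q ≫ s = w ≫ a) (τ : T) :
    pullback.lift q w h τ = pullback.lift q' w' (eq ▸ ew ▸ h) τ := by
  subst eq ew; rfl

section trPiece

variable {W T T' : Scheme.{u}} {a : W ⟶ G.U} (Q : (pullback G.s a).Opens)

/-- The piece over the target of an arrow obtained by translation. -/
def trPiece (q : T ⟶ G.R) (w : T ⟶ W) (hq : q ≫ G.s = w ≫ a) : (pullback G.s (q ≫ G.t)).Opens :=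
  tr q hq rfl ⁻¹ᵁ (bcm G.s w rfl ⁻¹ᵁ Q)

theorem trPiece_deg {d : ℕ} (hQ : Mor2.IsFinLocFreeOfDeg d (Q.ι ≫ pullback.snd G.s a)) (q : T ⟶ G.R)
    (w : T ⟶ W) (hq : q ≫ G.s = w ≫ a) :
    Mor2.IsFinLocFreeOfDeg d ((trPiece Q q w hq).ι ≫ pullback.snd G.s (q ≫ G.t)) :=
  deg_preimage (isPullback_tr q hq rfl) _ (deg_preimage (isPullback_bcm G.s w rfl) Q hQ)

/-- Membership in a translated piece. -/
theorem mem_trPiece (q : T ⟶ G.R) (w : T ⟶ W) (hq : q ≫ G.s = w ≫ a) (h : T' ⟶ T) (p : T' ⟶ G.R)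
    (hp : p ≫ G.s = h ≫ q ≫ G.t) (τ : T') :
    pullback.lift p h hp τ ∈ trPiece Q q w hq ↔
      pullback.lift (cmp G p (h ≫ q) (by rw [hp, Category.assoc])) (h ≫ w)
        (by rw [cmp_s, Category.assoc, hq, Category.assoc]) τ ∈ Q := by
  show bcm G.s w rfl (tr q hq rfl (pullback.lift p h hp τ)) ∈ Q ↔ _
  rw [← Scheme.Hom.comp_apply, ← Scheme.Hom.comp_apply, ← Category.assoc, lift_tr, lift_bcm]

theorem bcm_trPiece (q : T ⟶ G.R) (w : T ⟶ W) (hq : q ≫ G.s = w ≫ a) (h : T' ⟶ T) {y : T' ⟶ G.U}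
    (hy : h ≫ q ≫ G.t = y) :
    bcm G.s h hy ⁻¹ᵁ trPiece Q q w hq =
      tr (h ≫ q) (x := (h ≫ w) ≫ a) (y := y) (by rw [Category.assoc, hq, Category.assoc])
        (by rw [Category.assoc, hy]) ⁻¹ᵁ (bcm G.s (h ≫ w) rfl ⁻¹ᵁ Q) := by
  simp only [trPiece, ← Scheme.Hom.comp_preimage]
  rw [← Category.assoc, bcm_tr h q hq rfl (x' := (h ≫ w) ≫ a) (Category.assoc _ _ _).symm hy, Category.assoc,
    bcm_comp]

theorem trPiece_comp (q : T ⟶ G.R) (w : T ⟶ W) (hq : q ≫ G.s = w ≫ a) (h : T' ⟶ T) :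
    trPiece Q (h ≫ q) (h ≫ w) (by rw [Category.assoc, hq, Category.assoc]) =
      bcm G.s h (Category.assoc h q G.t).symm ⁻¹ᵁ trPiece Q q w hq :=
  (bcm_trPiece Q q w hq h _).symm

/-- Translation by an identity. -/
theorem trPiece_unit (q : T ⟶ G.R) (w : T ⟶ W) (hq : q ≫ G.s = w ≫ a) (he : q = (w ≫ a) ≫ G.e) :
    trPiece Q q w hq = bcm G.s w (by rw [he, Category.assoc, G.e_t, Category.comp_id]) ⁻¹ᵁ Q := by
  subst he
  have hy : w ≫ a = ((w ≫ a) ≫ G.e) ≫ G.t := by rw [Category.assoc, G.e_t, Category.comp_id]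
  show tr ((w ≫ a) ≫ G.e) hq rfl ⁻¹ᵁ _ = _
  have key : ∀ {y : T ⟶ G.U} (ey : ((w ≫ a) ≫ G.e) ≫ G.t = y) (hwy : w ≫ a = y),
      tr ((w ≫ a) ≫ G.e) hq ey ⁻¹ᵁ (bcm G.s w rfl ⁻¹ᵁ Q) = bcm G.s w hwy ⁻¹ᵁ Q := by
    intro y ey hwy
    subst hwy
    rw [tr_e]
    rfl
  exact key rfl hy

/-- Translation twice. -/
theorem trPiece_trPiece (q : T ⟶ G.R) (w : T ⟶ W) (hq : q ≫ G.s = w ≫ a) (g : T ⟶ W) (hg : g ≫ a = q ≫ G.t)
    (hgQ : bcm G.s g hg ⁻¹ᵁ Q = trPiece Q q w hq) (q' : T ⟶ G.R) (hq' : q' ≫ G.s = g ≫ a)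
    {y : T ⟶ G.U} (hy : q' ≫ G.t = y) :
    tr q' hq' hy ⁻¹ᵁ (bcm G.s g rfl ⁻¹ᵁ Q) =
      tr (cmp G q' q (hq'.trans hg)) (x := w ≫ a) (y := y) (by rw [cmp_s, hq]) (by rw [cmp_t, hy]) ⁻¹ᵁ
        (bcm G.s w rfl ⁻¹ᵁ Q) := by
  have key : ∀ {z : T ⟶ G.U} (e : g ≫ a = z) (hz : q' ≫ G.s = z),
      tr q' hz hy ⁻¹ᵁ (bcm G.s g e ⁻¹ᵁ Q) = tr q' hq' hy ⁻¹ᵁ (bcm G.s g rfl ⁻¹ᵁ Q) := by
    intro z e hz; subst e; rfl
  rw [← key hg (hq'.trans hg), hgQ, trPiece, ← Scheme.Hom.comp_preimage, tr_tr]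

end trPiece

variable {X : G.R.Opens} (D : PieceSpace G X)

/-- The source of an arrow in the universal piece. -/
def qπ : D.Q.toScheme ⟶ D.W := D.Q.ι ≫ pullback.snd G.s D.a

/-- The arrow underlying a point of the universal piece. -/
def qσ : D.Q.toScheme ⟶ G.R := D.Q.ι ≫ pullback.fst G.s D.a

theorem qσ_s : qσ D ≫ G.s = qπ D ≫ D.a := by rw [qσ, qπ, Category.assoc, pullback.condition, Category.assoc]

variable {T T' : Scheme.{u}}

/-- A pair lies in the universal piece. -/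
def Mem (q : T ⟶ G.R) (w : T ⟶ D.W) (hq : q ≫ G.s = w ≫ D.a) : Prop := ∀ τ, pullback.lift q w hq τ ∈ D.Q

/-- The point of the universal piece of a pair. -/
def toQ (q : T ⟶ G.R) (w : T ⟶ D.W) (hq : q ≫ G.s = w ≫ D.a) (h : Mem D q w hq) : T ⟶ D.Q.toScheme :=
  IsOpenImmersion.lift D.Q.ι (pullback.lift q w hq) (by rintro _ ⟨τ, rfl⟩; rw [D.Q.range_ι]; exact h τ)

@[reassoc]
theorem toQ_σ (q : T ⟶ G.R) (w : T ⟶ D.W) (hq : q ≫ G.s = w ≫ D.a) (h : Mem D q w hq) :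
    toQ D q w hq h ≫ qσ D = q := by
  rw [qσ, toQ, IsOpenImmersion.lift_fac_assoc, pullback.lift_fst]

@[reassoc]
theorem toQ_π (q : T ⟶ G.R) (w : T ⟶ D.W) (hq : q ≫ G.s = w ≫ D.a) (h : Mem D q w hq) :
    toQ D q w hq h ≫ qπ D = w := by
  rw [qπ, toQ, IsOpenImmersion.lift_fac_assoc, pullback.lift_snd]

theorem mem_of_factor (k : T ⟶ D.Q.toScheme) (q : T ⟶ G.R) (w : T ⟶ D.W) (eq : k ≫ qσ D = q) (ew : k ≫ qπ D = w)
    (hq : q ≫ G.s = w ≫ D.a) : Mem D q w hq := fun τ => by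
  have h : pullback.lift q w hq = k ≫ D.Q.ι := by
    apply pullback.hom_ext
    · rw [pullback.lift_fst, Category.assoc]; exact eq.symm
    · rw [pullback.lift_snd, Category.assoc]; exact ew.symm
  rw [h, Scheme.Hom.comp_apply]
  exact (k τ).2

theorem mem_unit (w : T ⟶ D.W) (q : T ⟶ G.R) (hq : q ≫ G.s = w ≫ D.a) (he : q = (w ≫ D.a) ≫ G.e) : Mem D q w hq := by
  intro τ
  have h : pullback.lift q w hq = w ≫ pullback.lift (D.a ≫ G.e) (𝟙 D.W)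
      (by rw [Category.assoc, G.e_s, Category.comp_id, Category.id_comp]) := by
    apply pullback.hom_ext
    · rw [pullback.lift_fst, Category.assoc, pullback.lift_fst, he, Category.assoc]
    · rw [pullback.lift_snd, Category.assoc, pullback.lift_snd, Category.comp_id]
  rw [h, Scheme.Hom.comp_apply]
  exact D.mem_e _

/-- Composable pairs: membership transported along a translated piece. -/
theorem mem_iff (q : T ⟶ G.R) (w : T ⟶ D.W) (hq : q ≫ G.s = w ≫ D.a) (g : T ⟶ D.W) (hg : g ≫ D.a = q ≫ G.t)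
    (hgQ : bcm G.s g hg ⁻¹ᵁ D.Q = trPiece D.Q q w hq) (p : T ⟶ G.R) (hp : p ≫ G.s = g ≫ D.a) :
    Mem D p g hp ↔ Mem D (cmp G p q (hp.trans hg)) w (by rw [cmp_s, hq]) := by
  refine forall_congr' fun τ => ?_
  have h₁ : p ≫ G.s = 𝟙 T ≫ q ≫ G.t := by rw [hp, hg, Category.id_comp]
  have e1 : pullback.lift p g hp τ ∈ D.Q ↔ pullback.lift p (𝟙 T) h₁ τ ∈ trPiece D.Q q w hq := by
    rw [← hgQ]
    show _ ↔ bcm G.s g hg (pullback.lift p (𝟙 T) h₁ τ) ∈ D.Q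
    rw [← Scheme.Hom.comp_apply, lift_bcm, lift_apply_congr rfl (Category.id_comp g)]
  rw [e1, mem_trPiece, lift_apply_congr (cmp_congr rfl (Category.id_comp q) _) (Category.id_comp w)]

/-- The arrows whose translated piece is again in the space, with the translation. -/
theorem exists_dom : ∃ (T₁ : D.Q.toScheme.Opens) (g : T₁.toScheme ⟶ D.W) (hg : g ≫ D.a = (T₁.ι ≫ qσ D) ≫ G.t),
    bcm G.s g hg ⁻¹ᵁ D.Q = trPiece D.Q (T₁.ι ≫ qσ D) (T₁.ι ≫ qπ D) (by rw [Category.assoc, qσ_s, Category.assoc]) ∧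
    ∀ (Y : Scheme.{u}) (k : Y ⟶ D.Q.toScheme) (l : Y ⟶ D.W) (e : l ≫ D.a = (k ≫ qσ D) ≫ G.t),
      bcm G.s l e ⁻¹ᵁ D.Q = trPiece D.Q (k ≫ qσ D) (k ≫ qπ D) (by rw [Category.assoc, qσ_s, Category.assoc]) →
      ∀ y : Y, k y ∈ T₁ := by
  let A := trPiece D.Q (qσ D) (qπ D) (qσ_s D)
  have hA := trPiece_deg D.Q D.deg (qσ D) (qπ D) (qσ_s D)
  haveI := hA.1.1
  let TX : D.Q.toScheme.Opens := fibreLocus (pullback.snd G.s (qσ D ≫ G.t)) A (pullback.fst G.s _ ⁻¹ᵁ X)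
  let q := TX.ι ≫ qσ D
  let w := TX.ι ≫ qπ D
  have hq : q ≫ G.s = w ≫ D.a := by rw [Category.assoc, qσ_s, Category.assoc]
  let O := trPiece D.Q q w hq
  have hOA : O = bcm G.s TX.ι (Category.assoc TX.ι (qσ D) G.t).symm ⁻¹ᵁ A := trPiece_comp D.Q _ _ _ _
  have hOX : O ≤ pullback.fst G.s (q ≫ G.t) ⁻¹ᵁ X := fun z hz => by
    rw [hOA] at hz
    have h1 := (mem_fibreLocus _).1 (pullback.snd G.s (q ≫ G.t) z).2
      (bcm G.s TX.ι (Category.assoc TX.ι (qσ D) G.t).symm z) hz (by rw [← Scheme.Hom.comp_apply, bcm_snd]; rfl)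
    show pullback.fst G.s (q ≫ G.t) z ∈ X
    rw [← bcm_fst G.s TX.ι (Category.assoc TX.ι (qσ D) G.t).symm, Scheme.Hom.comp_apply]
    exact h1
  have hOe : ∀ τ, pullback.lift ((q ≫ G.t) ≫ G.e) (𝟙 _)
      (by rw [Category.assoc, G.e_s, Category.comp_id, Category.id_comp]) τ ∈ O := by
    intro τ
    rw [mem_trPiece, lift_apply_congr ((cmp_congr rfl (Category.id_comp q) _).trans (id_cmp' _ _ _))
      (Category.id_comp w)]
    exact mem_of_factor D TX.ι q w rfl rfl hq τ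
  obtain ⟨T₂, g, hg, hgQ, hk⟩ := D.exist _ _ O (trPiece_deg D.Q D.deg q w hq) hOX hOe
  -- the domain as an open of the piece
  let T₁ : D.Q.toScheme.Opens := TX.ι ''ᵁ T₂
  let e := (TX.ι.isoImage T₂)
  have he : e.inv ≫ T₂.ι ≫ TX.ι = T₁.ι := by
    rw [← Scheme.Hom.isoImage_hom_ι TX.ι T₂, Iso.inv_hom_id_assoc]
  refine ⟨T₁, e.inv ≫ g, ?_, ?_, fun Y k l el hl y => ?_⟩
  · rw [Category.assoc, hg, ← he]
    simp only [q, Category.assoc]
  · have key : ∀ {V : Scheme.{u}} (j : V ⟶ T₂.toScheme) (q' : V ⟶ G.R) (w' : V ⟶ D.W) (hq' : q' ≫ G.s = w' ≫ D.a)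
        (eq : q' = (j ≫ T₂.ι) ≫ q) (ew : w' = (j ≫ T₂.ι) ≫ w) (hj : (j ≫ g) ≫ D.a = q' ≫ G.t),
        bcm G.s (j ≫ g) hj ⁻¹ᵁ D.Q = trPiece D.Q q' w' hq' := by
      intro V j q' w' hq' eq ew hj
      subst eq ew
      rw [trPiece_comp D.Q q w hq (j ≫ T₂.ι)]
      have e2 : j ≫ T₂.ι ≫ q ≫ G.t = ((j ≫ T₂.ι) ≫ q) ≫ G.t := by simp only [Category.assoc]
      rw [← bcm_comp G.s g hg j e2, Scheme.Hom.comp_preimage, hgQ, ← Scheme.Hom.comp_preimage, bcm_comp]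
    exact key e.inv _ _ _ (by rw [← he]; simp only [q, Category.assoc]) (by rw [← he]; simp only [w, Category.assoc]) _
  · have hTX : ∀ y, k y ∈ TX := fun y => (mem_fibreLocus _).2 fun z hz hzy => by
      obtain ⟨z', hz', -⟩ := Scheme.exists_preimage_of_isPullback
        (isPullback_bcm G.s k (Category.assoc k (qσ D) G.t).symm) z y hzy
      have h1 : z' ∈ bcm G.s l el ⁻¹ᵁ D.Q := by
        rw [hl, trPiece_comp D.Q _ _ (qσ_s D) k]
        show bcm G.s k _ z' ∈ A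
        rw [hz']; exact hz
      have h2 := D.le_X (show bcm G.s l el z' ∈ D.Q from h1)
      show pullback.fst G.s _ z ∈ X
      rw [← hz', ← Scheme.Hom.comp_apply, bcm_fst]
      have h3 : pullback.fst G.s D.a (bcm G.s l el z') ∈ X := h2
      rwa [← Scheme.Hom.comp_apply, bcm_fst] at h3
    let kX : Y ⟶ TX.toScheme := IsOpenImmersion.lift TX.ι k (by rintro _ ⟨y, rfl⟩; rw [TX.range_ι]; exact hTX y)
    have hkX : kX ≫ TX.ι = k := IsOpenImmersion.lift_fac _ _ _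
    refine ⟨kX y, hk Y kX l ?_ ?_ y, (Scheme.Hom.comp_apply kX TX.ι y).symm.trans (by rw [hkX])⟩
    · rw [el, ← hkX]; simp only [q, Category.assoc]
    · have key : ∀ {y' : Y ⟶ G.U} (el' : l ≫ D.a = y') (ey : kX ≫ q ≫ G.t = y')
          (ey' : k ≫ qσ D ≫ G.t = y'),
          bcm G.s l el' ⁻¹ᵁ D.Q = bcm G.s k ey' ⁻¹ᵁ A → bcm G.s l el' ⁻¹ᵁ D.Q = bcm G.s kX ey ⁻¹ᵁ O := by
        intro y' el' ey ey' h
        rw [h, hOA, ← Scheme.Hom.comp_preimage, bcm_comp, bcm_congr G.s hkX]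
      refine key _ rfl (by rw [← hkX]; simp only [q, Category.assoc]) ?_
      have e3 : l ≫ D.a = kX ≫ q ≫ G.t := by rw [el, ← hkX]; simp only [q, Category.assoc]
      have key2 : ∀ {y' : Y ⟶ G.U} (el' : l ≫ D.a = y') (ey' : k ≫ qσ D ≫ G.t = y'),
          bcm G.s l el' ⁻¹ᵁ D.Q = bcm G.s k ey' ⁻¹ᵁ A := by
        intro y' el' ey'
        have e4 : y' = (k ≫ qσ D) ≫ G.t := by rw [← ey', Category.assoc]
        subst e4
        rw [hl, trPiece_comp D.Q _ _ (qσ_s D) k]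
      exact key2 e3 (by rw [← hkX]; simp only [q, Category.assoc])

end Groth.Agent.GrpdEt19
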