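import Groth.Agent.Lib.GrpdEt19.Moduli
import Groth.Agent.Lib.GrpdEt19.Nbhd
import Groth.Agent.Lib.HilbRep25.Cover
import Groth.Agent.Lib.FinQuot.Invariant
import Mathlib

/-!
# The space of pieces near a finite set of quasi-finite arrows with a common source
-/

set_option autoImplicit false
set_option linter.style.haveILetI false
set_option backward.isDefEq.respectTransparency.types false
set_option maxHeartbeats 1000000

universe u

open CategoryTheory CategoryTheory.Limits AlgebraicGeometry TopologicalSpace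

noncomputable section

namespace Groth.Agent.GrpdEt19

section jX

variable {R U T T' : Scheme.{u}} (s : R ⟶ U) (X : R.Opens) (x : T ⟶ U)

/-- The open subscheme of the base change lying over an open. -/
def jX : pullback (X.ι ≫ s) x ⟶ pullback s x :=
  pullback.lift (pullback.fst _ _ ≫ X.ι) (pullback.snd _ _) (by rw [Category.assoc, pullback.condition])

theorem jX_fst : jX s X x ≫ pullback.fst s x = pullback.fst (X.ι ≫ s) x ≫ X.ι := pullback.lift_fst _ _ _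

theorem jX_snd : jX s X x ≫ pullback.snd s x = pullback.snd (X.ι ≫ s) x := pullback.lift_snd _ _ _

theorem isPullback_jX : IsPullback (jX s X x) (pullback.fst (X.ι ≫ s) x) (pullback.fst s x) X.ι := by
  refine IsPullback.of_right (h₁₂ := pullback.snd s x) (h₂₂ := s) (v₁₃ := x) ?_ (jX_fst s X x)
    (IsPullback.of_hasPullback s x).flip
  rw [jX_snd]
  exact (IsPullback.of_hasPullback (X.ι ≫ s) x).flip

instance : IsOpenImmersion (jX s X x) := MorphismProperty.of_isPullback (isPullback_jX s X x).flip inferInstance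

theorem opensRange_jX : (jX s X x).opensRange = pullback.fst s x ⁻¹ᵁ X := by
  refine Opens.ext (Set.ext fun z => ⟨?_, fun hz => ?_⟩)
  · rintro ⟨w, rfl⟩
    show pullback.fst s x (jX s X x w) ∈ X
    rw [← Scheme.Hom.comp_apply, jX_fst, Scheme.Hom.comp_apply]
    exact (pullback.fst (X.ι ≫ s) x w).2
  · obtain ⟨w, hw, -⟩ := Scheme.exists_preimage_of_isPullback (isPullback_jX s X x) z ⟨_, hz⟩ rfl
    exact ⟨w, hw⟩

theorem jX_bcm (h : T' ⟶ T) {x' : T' ⟶ U} (hx : h ≫ x = x') :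
    bcm (X.ι ≫ s) h hx ≫ jX s X x = jX s X x' ≫ bcm s h hx := by
  apply pullback.hom_ext
  · rw [Category.assoc, jX_fst, Category.assoc, bcm_fst, bcm_fst_assoc, jX_fst]
  · rw [Category.assoc, jX_snd, Category.assoc, bcm_snd, bcm_snd, ← Category.assoc (jX s X x'), jX_snd]

theorem jX_image_deg (O : (pullback (X.ι ≫ s) x).Opens) {d : ℕ}
    (hO : Mor2.IsFinLocFreeOfDeg d (O.ι ≫ pullback.snd (X.ι ≫ s) x)) :
    Mor2.IsFinLocFreeOfDeg d ((jX s X x ''ᵁ O).ι ≫ pullback.snd s x) := by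
  have sq : IsPullback ((jX s X x).isoImage O).inv ((jX s X x ''ᵁ O).ι ≫ pullback.snd s x)
      (O.ι ≫ pullback.snd (X.ι ≫ s) x) (𝟙 T) := IsPullback.of_horiz_isIso ⟨by
    rw [Category.comp_id, show O.ι ≫ pullback.snd (X.ι ≫ s) x = (O.ι ≫ jX s X x) ≫ pullback.snd s x by
      rw [Category.assoc, jX_snd], ← Scheme.Hom.isoImage_hom_ι (jX s X x) O, Category.assoc, Iso.inv_hom_id_assoc]⟩
  exact HilbBC25.isFinLocFreeOfDeg_of_isPullback sq hO

theorem deg_jX_preimage (A : (pullback s x).Opens) (hA : A ≤ pullback.fst s x ⁻¹ᵁ X) {d : ℕ}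
    (hd : Mor2.IsFinLocFreeOfDeg d (A.ι ≫ pullback.snd s x)) :
    Mor2.IsFinLocFreeOfDeg d ((jX s X x ⁻¹ᵁ A).ι ≫ pullback.snd (X.ι ≫ s) x) := by
  haveI : Surjective (jX s X x ∣_ A) := ⟨fun z => by
    obtain ⟨w, hw⟩ := (opensRange_jX s X x).ge (hA z.2)
    refine ⟨⟨w, show jX s X x w ∈ A by rw [hw]; exact z.2⟩, A.ι.isOpenEmbedding.injective ?_⟩
    rw [← Scheme.Hom.comp_apply, morphismRestrict_ι]
    exact hw⟩
  haveI : IsIso (jX s X x ∣_ A) := (isIso_iff_isOpenImmersion_and_surjective (f := jX s X x ∣_ A)).2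
    ⟨inferInstance, inferInstance⟩
  have sq : IsPullback (jX s X x ∣_ A) ((jX s X x ⁻¹ᵁ A).ι ≫ pullback.snd (X.ι ≫ s) x)
      (A.ι ≫ pullback.snd s x) (𝟙 T) := IsPullback.of_horiz_isIso ⟨by
    rw [Category.comp_id, morphismRestrict_ι_assoc, jX_snd]⟩
  exact HilbBC25.isFinLocFreeOfDeg_of_isPullback sq hd

theorem eq_of_jX_preimage_eq {A B : (pullback s x).Opens} (hA : A ≤ pullback.fst s x ⁻¹ᵁ X)
    (hB : B ≤ pullback.fst s x ⁻¹ᵁ X) (h : jX s X x ⁻¹ᵁ A = jX s X x ⁻¹ᵁ B) : A = B := by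
  rw [← opensRange_jX] at hA hB
  refine Opens.ext (Set.ext fun z => ⟨fun hz => ?_, fun hz => ?_⟩)
  · obtain ⟨w, rfl⟩ := hA hz
    exact h.le (show w ∈ jX s X x ⁻¹ᵁ A from hz)
  · obtain ⟨w, rfl⟩ := hB hz
    exact h.ge (show w ∈ jX s X x ⁻¹ᵁ B from hz)

theorem bcm_preimage_le (h : T' ⟶ T) {x' : T' ⟶ U} (hx : h ≫ x = x') (A : (pullback s x).Opens)
    (hA : A ≤ pullback.fst s x ⁻¹ᵁ X) : bcm s h hx ⁻¹ᵁ A ≤ pullback.fst s x' ⁻¹ᵁ X := fun z hz => by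
  have := hA (show bcm s h hx z ∈ A from hz)
  show pullback.fst s x' z ∈ X
  rw [← bcm_fst s h hx, Scheme.Hom.comp_apply]
  exact this

end jX

theorem surjective_residueFieldMap_of_comp {A B C : Scheme.{u}} (f : A ⟶ B) (g : B ⟶ C) (h : A ⟶ C)
    (e : f ≫ g = h) (x : A) (hx : Function.Surjective (h.residueFieldMap x)) :
    Function.Surjective (g.residueFieldMap (f x)) := by
  subst e
  intro b
  obtain ⟨z, hz⟩ := hx ((f.residueFieldMap x).hom b)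
  rw [Scheme.residueFieldMap_comp] at hz
  exact ⟨z, (f.residueFieldMap x).hom.injective hz⟩

theorem surjective_residueFieldMap_ι_comp {A B : Scheme.{u}} (V : A.Opens) (g : A ⟶ B) (x : V.toScheme)
    (hx : Function.Surjective (g.residueFieldMap (V.ι x))) :
    Function.Surjective ((V.ι ≫ g).residueFieldMap x) := by
  rw [Scheme.residueFieldMap_comp]
  exact ((ConcreteCategory.bijective_of_isIso (V.ι.residueFieldMap x)).2).comp hx

variable {S : Scheme.{u}}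

/-- An étale space over the objects carrying a universal finite locally free piece inside an open of
the arrows, with the identities in it. -/
structure PieceSpace (G : Grpd.GroupoidScheme S) (X : G.R.Opens) where
  /-- the space -/
  W : Scheme.{u}
  /-- the structure map -/
  a : W ⟶ G.U
  /-- the universal piece -/
  Q : (pullback G.s a).Opens
  /-- the degree -/
  d : ℕ
  etale : Etale a
  deg : Mor2.IsFinLocFreeOfDeg d (Q.ι ≫ pullback.snd G.s a)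
  le_X : Q ≤ pullback.fst G.s a ⁻¹ᵁ X
  mem_e : ∀ w : W, pullback.lift (a ≫ G.e) (𝟙 W) (by rw [Category.assoc, G.e_s, Category.comp_id, Category.id_comp]) w ∈ Q
  uniq : ∀ (T : Scheme.{u}) (x : T ⟶ G.U) (g g' : T ⟶ W) (e : g ≫ a = x) (e' : g' ≫ a = x),
    bcm G.s g e ⁻¹ᵁ Q = bcm G.s g' e' ⁻¹ᵁ Q → g = g'
  exist : ∀ (T : Scheme.{u}) (x : T ⟶ G.U) (O : (pullback G.s x).Opens),
    Mor2.IsFinLocFreeOfDeg d (O.ι ≫ pullback.snd G.s x) → O ≤ pullback.fst G.s x ⁻¹ᵁ X →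
    (∀ τ : T, pullback.lift (x ≫ G.e) (𝟙 T)
      (by rw [Category.assoc, G.e_s, Category.comp_id, Category.id_comp]) τ ∈ O) →
    ∃ (T₁ : T.Opens) (g : T₁.toScheme ⟶ W) (hg : g ≫ a = T₁.ι ≫ x),
      bcm G.s g hg ⁻¹ᵁ Q = bcm G.s T₁.ι rfl ⁻¹ᵁ O ∧
      ∀ (Y : Scheme.{u}) (k : Y ⟶ T) (l : Y ⟶ W) (e : l ≫ a = k ≫ x),
        bcm G.s l e ⁻¹ᵁ Q = bcm G.s k rfl ⁻¹ᵁ O → ∀ y : Y, k y ∈ T₁

theorem lift_e_bcm (G : Grpd.GroupoidScheme S) {T T' : Scheme.{u}} (h : T' ⟶ T) (x : T ⟶ G.U) {x' : T' ⟶ G.U}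
    (hx : h ≫ x = x') (e₁ : (x' ≫ G.e) ≫ G.s = 𝟙 T' ≫ x') (e₂ : (x ≫ G.e) ≫ G.s = 𝟙 T ≫ x) :
    pullback.lift (x' ≫ G.e) (𝟙 T') e₁ ≫ bcm G.s h hx = h ≫ pullback.lift (x ≫ G.e) (𝟙 T) e₂ := by
  rw [lift_bcm]
  apply pullback.hom_ext
  · rw [pullback.lift_fst, Category.assoc, pullback.lift_fst, ← Category.assoc, hx]
  · rw [pullback.lift_snd, Category.assoc, pullback.lift_snd, Category.comp_id, Category.id_comp]

theorem exists_pieceSpace (G : Grpd.GroupoidScheme S) [IsAffine G.U] [IsSeparated G.s] [Flat G.s]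
    [LocallyOfFinitePresentation G.s] (u : G.U) (M : Set G.R) (hM : M.Finite) (hMs : ∀ r ∈ M, G.s r = u)
    (hMq : ∀ r ∈ M, G.s.QuasiFiniteAt r) (heM : G.e u ∈ M) :
    ∃ (X : G.R.Opens) (D : PieceSpace G X) (w : D.W), M ⊆ X ∧ D.a w = u ∧
      Function.Surjective (D.a.residueFieldMap w) ∧
      ∀ z, pullback.snd G.s D.a z = w → (z ∈ D.Q ↔ pullback.fst G.s D.a z ∈ M) := by
  obtain ⟨W₀, hW₀, hMW⟩ := FinQuot.exists_affine_of_finite (G.s.quasiFiniteLocus.ι ≫ G.s)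
    (E := G.s.quasiFiniteLocus.ι ⁻¹' M) (hM.preimage G.s.quasiFiniteLocus.ι.isOpenEmbedding.injective.injOn)
  let X : G.R.Opens := G.s.quasiFiniteLocus.ι ''ᵁ W₀
  have hX : IsAffineOpen X := hW₀.image_of_isOpenImmersion _
  have hMX : M ⊆ X := fun r hr => ⟨⟨r, hMq r hr⟩, hMW hr, rfl⟩
  obtain ⟨V, a', v, ha', hv, hres, O, d, hO, hOv⟩ := exists_piece_nbhd G.s u M hM hMs hMq
  haveI := hO.1.1
  haveI := ha'
  -- shrink so that the piece lies in `X` and contains the identity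
  let ev : V ⟶ pullback G.s a' := pullback.lift (a' ≫ G.e) (𝟙 V)
    (by rw [Category.assoc, G.e_s, Category.comp_id, Category.id_comp])
  let V₁ : V.Opens := fibreLocus (pullback.snd G.s a') O (pullback.fst G.s a' ⁻¹ᵁ X) ⊓ ev ⁻¹ᵁ O
  have hvV₁ : v ∈ V₁ := by
    refine ⟨(mem_fibreLocus v).2 fun z hz hzv => hMX ((hOv z hzv).1 hz), ?_⟩
    show ev v ∈ O
    rw [hOv (ev v) (by rw [← Scheme.Hom.comp_apply, pullback.lift_snd]; rfl), ← Scheme.Hom.comp_apply,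
      pullback.lift_fst, Scheme.Hom.comp_apply, hv]
    exact heM
  let O₁ := bcm G.s V₁.ι (rfl : V₁.ι ≫ a' = V₁.ι ≫ a') ⁻¹ᵁ O
  have hO₁ := deg_preimage (isPullback_bcm G.s V₁.ι rfl) O hO
  have hO₁X : O₁ ≤ pullback.fst G.s (V₁.ι ≫ a') ⁻¹ᵁ X := fun z hz => by
    have h1 := (mem_fibreLocus _).1 (pullback.snd G.s (V₁.ι ≫ a') z).2.1 (bcm G.s V₁.ι rfl z) hz
      (by rw [← Scheme.Hom.comp_apply, bcm_snd]; rfl)
    show pullback.fst G.s (V₁.ι ≫ a') z ∈ X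
    rw [← bcm_fst G.s V₁.ι (rfl : V₁.ι ≫ a' = V₁.ι ≫ a'), Scheme.Hom.comp_apply]
    exact h1
  haveI : IsAffine X.toScheme := hX
  have hrep : HilbD.Representable (X.ι ≫ G.s) d :=
    HilbRep25.representable_of_fibre_points d fun _ _ _ => ⟨⊤, isAffineOpen_top _, fun _ => trivial⟩
  obtain ⟨W, a, Q₀, c, hc, hat, -, hQ₀, hcQ, huniq, hex⟩ := exists_universal_piece (X.ι ≫ G.s) hrep
    (V₁.ι ≫ a') (jX G.s X (V₁.ι ≫ a') ⁻¹ᵁ O₁) (deg_jX_preimage _ _ _ O₁ hO₁X hO₁)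
  let Q := jX G.s X a ''ᵁ Q₀
  have hQdeg : Mor2.IsFinLocFreeOfDeg d (Q.ι ≫ pullback.snd G.s a) := jX_image_deg _ _ _ Q₀ hQ₀
  have hQX : Q ≤ pullback.fst G.s a ⁻¹ᵁ X := by
    rw [← opensRange_jX]
    exact Scheme.Hom.image_le_opensRange _ _
  have hpre : ∀ {T : Scheme.{u}} {x : T ⟶ G.U} (g : T ⟶ W) (hg : g ≫ a = x),
      jX G.s X x ⁻¹ᵁ (bcm G.s g hg ⁻¹ᵁ Q) = bcm (X.ι ≫ G.s) g hg ⁻¹ᵁ Q₀ := by
    intro T x g hg
    rw [← Scheme.Hom.comp_preimage, ← jX_bcm, Scheme.Hom.comp_preimage]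
    congr 1
    exact Scheme.Hom.preimage_image_eq _ _
  -- the locus of pieces containing the identity
  let ew : W ⟶ pullback G.s a := pullback.lift (a ≫ G.e) (𝟙 W)
    (by rw [Category.assoc, G.e_s, Category.comp_id, Category.id_comp])
  let W₁ : W.Opens := ew ⁻¹ᵁ Q
  have hQ₁ := deg_preimage (isPullback_bcm G.s W₁.ι (rfl : W₁.ι ≫ a = W₁.ι ≫ a)) Q hQdeg
  haveI := hat
  refine ⟨X, ⟨W₁.toScheme, W₁.ι ≫ a, bcm G.s W₁.ι rfl ⁻¹ᵁ Q, d, inferInstance, hQ₁,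
    bcm_preimage_le _ _ _ _ _ Q hQX, fun w => ?_, fun T x g g' e e' h => ?_, fun T x O' hO' hO'X hO'e => ?_⟩, ?_⟩
  · show bcm G.s W₁.ι rfl _ ∈ Q
    rw [← Scheme.Hom.comp_apply, lift_e_bcm, Scheme.Hom.comp_apply]
    exact w.2
  · refine (cancel_mono W₁.ι).1 ?_
    have e1 : (g ≫ W₁.ι) ≫ a = x := (Category.assoc _ _ _).trans e
    have e1' : (g' ≫ W₁.ι) ≫ a = x := (Category.assoc _ _ _).trans e'
    subst e1
    refine huniq T _ _ e1' ?_
    rw [← hpre, ← hpre, ← bcm_comp G.s W₁.ι rfl g e, ← bcm_comp G.s W₁.ι rfl g' e']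
    exact congrArg (jX G.s X _ ⁻¹ᵁ ·) h
  · obtain ⟨T₁, g, hg, hgQ, hk⟩ := hex T x (jX G.s X x ⁻¹ᵁ O') (deg_jX_preimage _ _ _ O' hO'X hO')
    have hgQ' : bcm G.s g hg ⁻¹ᵁ Q = bcm G.s T₁.ι rfl ⁻¹ᵁ O' := by
      refine eq_of_jX_preimage_eq _ _ _ (bcm_preimage_le _ _ _ _ _ Q hQX)
        (bcm_preimage_le _ _ _ _ _ O' hO'X) ?_
      rw [hpre, hgQ, ← Scheme.Hom.comp_preimage, ← Scheme.Hom.comp_preimage, jX_bcm]
    have hge : ∀ τ, g τ ∈ W₁ := by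
      intro τ
      show ew (g τ) ∈ Q
      have key : ∀ (h₁ : ((T₁.ι ≫ x) ≫ G.e) ≫ G.s = 𝟙 _ ≫ T₁.ι ≫ x),
          (pullback.lift ((T₁.ι ≫ x) ≫ G.e) (𝟙 _) h₁) τ ∈ bcm G.s T₁.ι (rfl : T₁.ι ≫ x = T₁.ι ≫ x) ⁻¹ᵁ O' := by
        intro h₁
        show bcm G.s T₁.ι rfl _ ∈ O'
        rw [← Scheme.Hom.comp_apply, lift_e_bcm G T₁.ι x rfl h₁
          (by rw [Category.assoc, G.e_s, Category.comp_id, Category.id_comp]), Scheme.Hom.comp_apply]
        exact hO'e (T₁.ι τ)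
      have := key (by rw [Category.assoc, G.e_s, Category.comp_id, Category.id_comp])
      rw [← hgQ'] at this
      have h4 : bcm G.s g hg (pullback.lift ((T₁.ι ≫ x) ≫ G.e) (𝟙 _) _ τ) ∈ Q := this
      rwa [← Scheme.Hom.comp_apply, lift_e_bcm G g a hg _
        (by rw [Category.assoc, G.e_s, Category.comp_id, Category.id_comp]), Scheme.Hom.comp_apply] at h4
    let g₁ : T₁.toScheme ⟶ W₁.toScheme := IsOpenImmersion.lift W₁.ι g (by
      rintro _ ⟨τ, rfl⟩; rw [W₁.range_ι]; exact hge τ)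
    have hg₁ : g₁ ≫ W₁.ι = g := IsOpenImmersion.lift_fac _ _ _
    have hg₁a : g₁ ≫ W₁.ι ≫ a = T₁.ι ≫ x := by rw [← Category.assoc, hg₁, hg]
    refine ⟨T₁, g₁, hg₁a, ?_, fun Y k l e hl y => ?_⟩
    · rw [← Scheme.Hom.comp_preimage, bcm_comp, bcm_congr G.s hg₁, hgQ']
    · refine hk Y k (l ≫ W₁.ι) ((Category.assoc _ _ _).trans e) ?_ y
      rw [← hpre, ← bcm_comp G.s W₁.ι rfl l e, Scheme.Hom.comp_preimage, hl, ← Scheme.Hom.comp_preimage,
        ← Scheme.Hom.comp_preimage, jX_bcm]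
  · -- the point
    let w₀ := c ⟨v, hvV₁⟩
    have hQc : bcm G.s c hc ⁻¹ᵁ Q = O₁ :=
      eq_of_jX_preimage_eq _ _ _ (bcm_preimage_le _ _ _ _ _ Q hQX) hO₁X ((hpre c hc).trans hcQ)
    have hw₀ : w₀ ∈ W₁ := by
      show ew (c ⟨v, hvV₁⟩) ∈ Q
      have h1 : pullback.lift ((V₁.ι ≫ a') ≫ G.e) (𝟙 _) (by rw [Category.assoc, G.e_s, Category.comp_id,
          Category.id_comp]) (⟨v, hvV₁⟩ : V₁.toScheme) ∈ O₁ := by
        show bcm G.s V₁.ι rfl _ ∈ O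
        rw [← Scheme.Hom.comp_apply, lift_e_bcm G V₁.ι a' rfl _
          (by rw [Category.assoc, G.e_s, Category.comp_id, Category.id_comp]), Scheme.Hom.comp_apply]
        exact hvV₁.2
      rw [← hQc] at h1
      have h2 : bcm G.s c hc _ ∈ Q := h1
      rwa [← Scheme.Hom.comp_apply, lift_e_bcm G c a hc _
        (by rw [Category.assoc, G.e_s, Category.comp_id, Category.id_comp]), Scheme.Hom.comp_apply] at h2
    have hcv : ((V₁.ι ≫ a') : V₁.toScheme ⟶ G.U) ⟨v, hvV₁⟩ = u := hv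
    refine ⟨⟨w₀, hw₀⟩, hMX, ?_, ?_, fun z hz => ?_⟩
    · show a (c ⟨v, hvV₁⟩) = u
      rw [← Scheme.Hom.comp_apply, hc]; exact hcv
    · exact surjective_residueFieldMap_ι_comp W₁ a ⟨w₀, hw₀⟩ (surjective_residueFieldMap_of_comp c a (V₁.ι ≫ a') hc
        ⟨v, hvV₁⟩ (surjective_residueFieldMap_ι_comp V₁ a' ⟨v, hvV₁⟩ hres))
    · have hz' : pullback.snd G.s a (bcm G.s W₁.ι rfl z) = c ⟨v, hvV₁⟩ := by
        rw [← Scheme.Hom.comp_apply, bcm_snd, Scheme.Hom.comp_apply, hz]; rfl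
      obtain ⟨z₁, hz₁, hz₁v⟩ := Scheme.exists_preimage_of_isPullback (isPullback_bcm G.s c hc) _ _ hz'
      have hfst : pullback.fst G.s (W₁.ι ≫ a) z = pullback.fst G.s a' (bcm G.s V₁.ι rfl z₁) := by
        rw [← bcm_fst G.s W₁.ι (rfl : W₁.ι ≫ a = W₁.ι ≫ a), Scheme.Hom.comp_apply, ← hz₁,
          ← Scheme.Hom.comp_apply, bcm_fst, ← Scheme.Hom.comp_apply, bcm_fst]
      show bcm G.s W₁.ι rfl z ∈ Q ↔ pullback.fst G.s (W₁.ι ≫ a) z ∈ M
      rw [hfst, ← hOv _ (by rw [← Scheme.Hom.comp_apply, bcm_snd, Scheme.Hom.comp_apply, hz₁v]; rfl), ← hz₁]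
      exact SetLike.ext_iff.1 hQc z₁

end Groth.Agent.GrpdEt19
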